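import Cfsg.Agent.Helper27.M22B.Codes

/-! Census of the stabiliser of two points in `M24`, part 0 (generated). -/

set_option autoImplicit false
set_option maxRecDepth 1000000
set_option Elab.async false

namespace Cfsg.Agent.Helper27.M22B

theorem chunk_0_0 : chunkPart 984818244535754528103549039458486304 snd0 = 1338878001515277483943102518609406916526099937240282300566171174453069972849376587597252794214589658037282366172677643703793206491367030724052856099270585308512521024 := by decide +kernel

theorem chunk_0_1 : chunkPart 984818244535754528103549039458486304 snd1 = 723425993751295364897303569710261342356452724049019877327697536962234071484460535405654497115933111640550813341183443733274497617808587511380857393245249087649876800 := by decide +kernel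

theorem chunk_0_2 : chunkPart 984818244535754528103549039458486304 snd2 = 493081600605941697613371996784506063064906707893997550774679287493933026628247784904630281809615318902590670166829657743024889509919246235010581504298185059972680512 := by decide +kernel

theorem chunk_0_3 : chunkPart 984818244535754528103549039458486304 snd3 = 716227776301269962567833725652935021478025515922016919996526403281212418633448393329534619852800773907787329564676752639325597101768556737249424605484069512558938944 := by decide +kernel

theorem chunk_0_4 : chunkPart 984818244535754528103549039458486304 snd4 = 712628638400788644462491895063024355520401743157636109453080372090068184665482177400585321704091280124189088153516967943962589547672602986836399817801486660217604928 := by decide +kernel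

theorem chunk_0_5 : chunkPart 984818244535754528103549039458486304 snd5 = 777412969582964384227799300962946630043360940411034252193256361993739010459579007024439520079365349586389635411374348351500148626247693792848408197712795714782759744 := by decide +kernel

theorem chunk_0_6 : chunkPart 984818244535754528103549039458486304 snd6 = 759417293810496820041695359681770628856931138553305354919850682698359472989058231210959673799916311718703642622861166608414577621807828562640378516536572064185715520 := by decide +kernel

end Cfsg.Agent.Helper27.M22B
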