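import Cfsg.Agent.Helper27.M22B.Codes

/-! Census of the stabiliser of two points in `M24`, part 1 (generated). -/

set_option autoImplicit false
set_option maxRecDepth 1000000
set_option Elab.async false

namespace Cfsg.Agent.Helper27.M22B

theorem chunk_1_0 : chunkPart 216952713852147572421861260223024160 snd0 = 187155009499884132755710473866566183313393798329290491393446873592402653466225733155507411438244438974283288621094795165910044383151567402270362201729931920627731264 := by decide +kernel

theorem chunk_1_1 : chunkPart 216952713852147572421861260223024160 snd1 = 125969726975685920351677331814923255849530171499996137698924526604981912774690019104410874501523043079846009159942948051589284945481015010402161441871618017369000768 := by decide +kernel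

theorem chunk_1_2 : chunkPart 216952713852147572421861260223024160 snd2 = 190754140535554697171132753457426185739175589809520787892191178489726359873432840377055305142136874252677129900065753446904692886457851991666077705864812986852444992 := by decide +kernel

theorem chunk_1_3 : chunkPart 216952713852147572421861260223024160 snd3 = 179956747428654299224264868856096660649168503493659930815498814872056038587316808284687248110477697587549361831458852097883724234584802122947867718245944953885690688 := by decide +kernel

theorem chunk_1_4 : chunkPart 216952713852147572421861260223024160 snd4 = 172758485357349177721324667623775153627182233729695681435149080746279748242610880829141761033178276721405084451127994348144967304180650563803426419223070086570969920 := by decide +kernel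

theorem chunk_1_5 : chunkPart 216952713852147572421861260223024160 snd5 = 187155012932322243536405789264366466205089771489304582903955424104787567075996685283505562108150623450531902237564872979460674602216438375051230217155125185030916928 := by decide +kernel

theorem chunk_1_6 : chunkPart 216952713852147572421861260223024160 snd6 = 183555899058681836691124965059028036786105350363431295555545291429796326455931989330660943102196484327449856674919243342170342914493080436689581126124546775568091968 := by decide +kernel

end Cfsg.Agent.Helper27.M22B
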