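import Cfsg.Agent.Helper27.M22B.Codes

/-! Census of the stabiliser of two points in `M24`, part 10 (generated). -/

set_option autoImplicit false
set_option maxRecDepth 1000000
set_option Elab.async false

namespace Cfsg.Agent.Helper27.M22B

theorem chunk_10_0 : chunkPart 303122133133286851481316558799745056 snd0 = 359913457100872366889788327691325290685848335813772668843936477121371658600557000571816345183163595573504056961667243929391007583542623649676263698696618470396660544 := by decide +kernel

theorem chunk_10_1 : chunkPart 303122133133286851481316558799745056 snd1 = 111573185671146994822065307173446354682389026906083186892658888166543851338211549697302906626262905264009888695857589215324208134364324097690350342866765731468413760 := by decide +kernel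

theorem chunk_10_2 : chunkPart 303122133133286851481316558799745056 snd2 = 129568840849329600515765892070338042994072706245736116619997296901173730028283038474009974443942935446139019982216149332119362538156444056938889249836748270609632064 := by decide +kernel

theorem chunk_10_3 : chunkPart 303122133133286851481316558799745056 snd3 = 136767099488219525022214018771636543950075955341883412220238138227997819416111101729310130464196185003942127546792365538986820126500386450240595413047715314024844096 := by decide +kernel

theorem chunk_10_4 : chunkPart 303122133133286851481316558799745056 snd4 = 136767096055797781228897403251005167991570992331530645483224122504564861880969896385982277997029233220576037695116151013830295935877818904300279711653903917736004416 := by decide +kernel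

theorem chunk_10_5 : chunkPart 303122133133286851481316558799745056 snd5 = 122370592507642713005178609519026614519597089035355845822351876607327363005192422205752349816634892042207247003739780514630598137417120289734116029838481243592723264 := by decide +kernel

theorem chunk_10_6 : chunkPart 303122133133286851481316558799745056 snd6 = 154762771828366820545698332033997459773802551885434823962494564691856127688640202151104886494706273041066114993116317302327542093881888175258133316563943404563598144 := by decide +kernel

end Cfsg.Agent.Helper27.M22B
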