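import Cfsg.Agent.Helper27.M22B.Codes

/-! Census of the stabiliser of two points in `M24`, part 11 (generated). -/

set_option autoImplicit false
set_option maxRecDepth 1000000
set_option Elab.async false

namespace Cfsg.Agent.Helper27.M22B

theorem chunk_11_0 : chunkPart 879064614151024110398765003454297120 snd0 = 143965392451061742872536871597710788086343236621522899609573240583845232980151157141861944750721082774852927236449705209116775125647447516607103760984972453656660800 := by decide +kernel

theorem chunk_11_1 : chunkPart 879064614151024110398765003454297120 snd1 = 161961020170053708068772587946641597336758165641443861228881635983052333731258421801725618292843009794843539209597873222336735823929393528164860697502068300146805568 := by decide +kernel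

theorem chunk_11_2 : chunkPart 879064614151024110398765003454297120 snd2 = 158361902864011197817526951187978689591708941729329403132327907867099383137540570969816828533626718459953256892258831042747480282529817334860624990816498778856491840 := by decide +kernel

theorem chunk_11_3 : chunkPart 879064614151024110398765003454297120 snd3 = 334719512392200545911341710015664233167493706385962572370967570218869176541200396997540288446220356620772867637985706365369868547302682667861034325920558085071440704 := by decide +kernel

theorem chunk_11_4 : chunkPart 879064614151024110398765003454297120 snd4 = 151163630495535773196709103477369132417746758936428961339783857041404492423380284070889769109570732212508270776002298705017440724187717124929439141133830644752714560 := by decide +kernel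

theorem chunk_11_5 : chunkPart 879064614151024110398765003454297120 snd5 = 147564520054290923126021146597142919043460387452062154747367227974091994688737488260232507027147384381938239744049616406798599034575074716053664955897729517617154880 := by decide +kernel

theorem chunk_11_6 : chunkPart 879064614151024110398765003454297120 snd6 = 143965371856675309280654007260507277481045858765516979910498461663469575362229071380415832863276126335127352874285439258670979738908385250716808982854076280552295232 := by decide +kernel

end Cfsg.Agent.Helper27.M22B
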