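import Cfsg.Agent.Helper27.M22B.Codes

/-! Census of the stabiliser of two points in `M24`, part 12 (generated). -/

set_option autoImplicit false
set_option maxRecDepth 1000000
set_option Elab.async false

namespace Cfsg.Agent.Helper27.M22B

theorem chunk_12_0 : chunkPart 797318700030328312851588429149616160 snd0 = 169159306268108085941578916960271977551401239217476032054849496340018848315576157313324081419301814012488065864402930930865893641267967279369030843750853724816280384 := by decide +kernel

theorem chunk_12_1 : chunkPart 797318700030328312851588429149616160 snd1 = 143965378721472969411263734150947931471542477794480637306016992950847096554724599586080819688239402245931989795383805464211628980990202718657114204499507351218293568 := by decide +kernel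

theorem chunk_12_2 : chunkPart 797318700030328312851588429149616160 snd2 = 125969716678489430146397537508195272756232664918893444067716433905955758944959642046777087600016758253556440049502215329378083524072074676757701105407950929637935936 := by decide +kernel

theorem chunk_12_3 : chunkPart 797318700030328312851588429149616160 snd3 = 143965375289057772352336629070942715889532873573747145391610032020724312693796811106622094111218574251577612285844783519677036929825078827234777092415382569458076480 := by decide +kernel

theorem chunk_12_4 : chunkPart 797318700030328312851588429149616160 snd4 = 349116057129138301543719631317391677101826831910210307613857582311528914475819046106819204646589852186265335054414874731784509781522797469446186299323608086058371904 := by decide +kernel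

theorem chunk_12_5 : chunkPart 797318700030328312851588429149616160 snd5 = 143965378721466422614439193161367953722103651447495702492798355890055047094740542558765109557654333075168657462400338579921836478052072249572254177961130921071479616 := by decide +kernel

theorem chunk_12_6 : chunkPart 797318700030328312851588429149616160 snd6 = 133167954722950366945599143607099957323562938909954312997230083445270618814427606914384869705034289803076914435502298602007343000171055239572591090568771558780701504 := by decide +kernel

end Cfsg.Agent.Helper27.M22B
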