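import Cfsg.Agent.Helper27.M22B.Codes

/-! Census of the stabiliser of two points in `M24`, part 13 (generated). -/

set_option autoImplicit false
set_option maxRecDepth 1000000
set_option Elab.async false

namespace Cfsg.Agent.Helper27.M22B

theorem chunk_13_0 : chunkPart 147192898613228835777360639198510112 snd0 = 154762795855178271352723232239556477127036255008259665685342745288074690416491258872697542975383294043887126932957897831442186518705379110946545861952378863056063296 := by decide +kernel

theorem chunk_13_1 : chunkPart 147192898613228835777360639198510112 snd1 = 122370582210456042987331234480951616416346145468529288964180180490626001640911311761258130705854151905154599279649777287028869541057204542725712607741315554826259264 := by decide +kernel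

theorem chunk_13_2 : chunkPart 147192898613228835777360639198510112 snd2 = 129568837416920950300489583028872330868815603550094204921403556796295770650464911996022593200566660335507949105874541176871702714610690378078434170178886235301350208 := by decide +kernel

theorem chunk_13_3 : chunkPart 147192898613228835777360639198510112 snd3 = 154762782125550217163572574210631676868567102934892367150050222423826154167754977489316610013467659910479157829236593464048165046244095499401912213526868197153704768 := by decide +kernel

theorem chunk_13_4 : chunkPart 147192898613228835777360639198510112 snd4 = 143965375289077412711592775467945363106118630455348053204340728871543611730403781198357024568995725491651687899337396801594874184143505062767356108146859740835613504 := by decide +kernel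

theorem chunk_13_5 : chunkPart 147192898613228835777360639198510112 snd5 = 125969713246106967037253903322631066691312524169899374012229333507005667761192849611637184102564734753440041408677586791077670515775747715852918490600893681957342016 := by decide +kernel

theorem chunk_13_6 : chunkPart 147192898613228835777360639198510112 snd6 = 352714941031831229977342961958411949834864573050166884796540876625565982654096124359663613207124953557330378690140335143692663156298427472408426486963627429545904960 := by decide +kernel

end Cfsg.Agent.Helper27.M22B
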