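import Cfsg.Agent.Helper27.M22B.Codes

/-! Census of the stabiliser of two points in `M24`, part 15 (generated). -/

set_option autoImplicit false
set_option maxRecDepth 1000000
set_option Elab.async false

namespace Cfsg.Agent.Helper27.M22B

theorem chunk_15_0 : chunkPart 810554161304948919008999514178798624 snd0 = 122370578778057212931391628595194987746589835346592589372763644261332294579717328326923499651072120880525793087431823665196710384779199862716714829975052558503250752 := by decide +kernel

theorem chunk_15_1 : chunkPart 810554161304948919008999514178798624 snd1 = 280732553722496216410629677357156739589904313686778767257162329462111148243732808491427450873479718800452895027582930854931498460118088074825259482185762788832447296 := by decide +kernel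

theorem chunk_15_2 : chunkPart 810554161304948919008999514178798624 snd2 = 125969733840499947438448302850670006349228577468272332564252516331641472256731712281881887089542336228118714355674729051049522898554795464789967741126672063571954496 := by decide +kernel

theorem chunk_15_3 : chunkPart 810554161304948919008999514178798624 snd3 = 107974068365140491904967528441951022415342678397491792586098223071770065148493548966597954393675072686145799555551798235889284538101799829355488522479465182315678528 := by decide +kernel

theorem chunk_15_4 : chunkPart 810554161304948919008999514178798624 snd4 = 122370606237247853431978260579123254150535828526816142826485238397408580064763320585274444656035597631235944605469105211367212139599436968276255772988021804256725824 := by decide +kernel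

theorem chunk_15_5 : chunkPart 810554161304948919008999514178798624 snd5 = 107974047770718050966449773173638807487136394839040350417947263373874738337009535649575015927555959901566789910936496851128417297563878268377954166511556543803034432 := by decide +kernel

theorem chunk_15_6 : chunkPart 810554161304948919008999514178798624 snd6 = 93577527060565559078668589674426971073885532197058307728625247966628091464060108507746719329557572762829762722223953631095324790729421443879674041134221643009231680 := by decide +kernel

end Cfsg.Agent.Helper27.M22B
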