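import Cfsg.Agent.Helper27.M22B.Codes

/-! Census of the stabiliser of two points in `M24`, part 16 (generated). -/

set_option autoImplicit false
set_option maxRecDepth 1000000
set_option Elab.async false

namespace Cfsg.Agent.Helper27.M22B

theorem chunk_16_0 : chunkPart 558866075274498647873793289023604768 snd0 = 125969692651668159201888182930473738249561309708924076954066128405222400353530936125469445373349655475945908998554588189586566184247103067019020126542560767858707264 := by decide +kernel

theorem chunk_16_1 : chunkPart 558866075274498647873793289023604768 snd1 = 133167982182177014799064107057280550584001433872763543916677487844566127255614751152018834932802634401907182752647194798404374088812748395654424920576087946753477440 := by decide +kernel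

theorem chunk_16_2 : chunkPart 558866075274498647873793289023604768 snd2 = 179956699375047764563254593811251646036098710167110838549008418524835728049892096549970555651714234124511274430192495477571009799219178977107750496043737023185423168 := by decide +kernel

theorem chunk_16_3 : chunkPart 558866075274498647873793289023604768 snd3 = 133167954722947093567478253575002536636015108956834370230145021442502190320438334718156479736552227536691314934829526438368402113448615196352962114828172783014382400 := by decide +kernel

theorem chunk_16_4 : chunkPart 558866075274498647873793289023604768 snd4 = 161961054494051828893644848304627056803652647977205405563301905471969535887646397385441810024480544397679415836835190974082439872216700775234557270016435987566037824 := by decide +kernel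

theorem chunk_16_5 : chunkPart 558866075274498647873793289023604768 snd5 = 338318615968608455173490461725328542378921739782203696614132958870423985104086658239765876664109221009549357459424709803608144951049453378471806207361532349779020608 := by decide +kernel

theorem chunk_16_6 : chunkPart 558866075274498647873793289023604768 snd6 = 165560154638080548431014349984308115105772701828300683594070770411661925429123634425767384186750562314265739784704580438768149398985674384085544209793509855089134400 := by decide +kernel

end Cfsg.Agent.Helper27.M22B
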