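import Cfsg.Agent.Helper27.M22B.Codes

/-! Census of the stabiliser of two points in `M24`, part 17 (generated). -/

set_option autoImplicit false
set_option maxRecDepth 1000000
set_option Elab.async false

namespace Cfsg.Agent.Helper27.M22B

theorem chunk_17_0 : chunkPart 340992244616271963265676300090854432 snd0 = 129568851146529364105410103281103899990698132524526397236197509569459710350758561863488281501139763286468397678167642393542281063508797545116730004065856401912630080 := by decide +kernel

theorem chunk_17_1 : chunkPart 340992244616271963265676300090854432 snd1 = 122370578778060486300147281907730158243110005537160583897962574857705895699300311363257986477081137170349731926764874424450667800256175976677759304477124004866427712 := by decide +kernel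

theorem chunk_17_2 : chunkPart 340992244616271963265676300090854432 snd2 = 165560199259278432882991830951008517857930847900072679968311145581980095225569471572894431365197742428580436430560712580479816581908815561584577072355581393448733504 := by decide +kernel

theorem chunk_17_3 : chunkPart 340992244616271963265676300090854432 snd3 = 122370575345674749791030502952244939700964097135775439601344469283678801113882101307400314203117919631638545556902409054678392331050584198372140673581374537658796864 := by decide +kernel

theorem chunk_17_4 : chunkPart 340992244616271963265676300090854432 snd4 = 129568868308533334625610319013711953467097989832019628331187564300716373989610908009005695462138023002674614738508118566517813642237834022401280264431594409895660352 := by decide +kernel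

theorem chunk_17_5 : chunkPart 340992244616271963265676300090854432 snd5 = 284331667596061335200128730207682692529591898170178303070155144614940842877985878177831132639302200517888721137288076673162828714860729496501543624874237152595020608 := by decide +kernel

theorem chunk_17_6 : chunkPart 340992244616271963265676300090854432 snd6 = 154762785557981781150565144803276288106632588029257432326638849881947143662075752404031663294309334893778628739272716763431373308031437290697757060287334248613940032 := by decide +kernel

end Cfsg.Agent.Helper27.M22B
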