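import Cfsg.Agent.Helper27.M22B.Codes

/-! Census of the stabiliser of two points in `M24`, part 18 (generated). -/

set_option autoImplicit false
set_option maxRecDepth 1000000
set_option Elab.async false

namespace Cfsg.Agent.Helper27.M22B

theorem chunk_18_0 : chunkPart 797482941914194797434568768743559200 snd0 = 115172323571562845109005696985430422336065494236094408273821693537230571869856443940249564080265029225057461695807596314835336046757959649082803170675360225724205888 := by decide +kernel

theorem chunk_18_1 : chunkPart 797482941914194797434568768743559200 snd1 = 125969730408068383463942729436449170859378546321699894671049748277926423485847008695885750731288096165552986997174760317020613885376430373000666782058741116526660416 := by decide +kernel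

theorem chunk_18_2 : chunkPart 797482941914194797434568768743559200 snd2 = 172758457898145443623967190224682634513359608429367168374734273125790222303584704144387021475018219854504341297247314549628084436612882509974237493752259927884172096 := by decide +kernel

theorem chunk_18_3 : chunkPart 797482941914194797434568768743559200 snd3 = 169159302835715802669976881679905389142261259832410504568619785842463079647741383567773238886981005241749824506309579720882471249032094793622058621010458568229391168 := by decide +kernel

theorem chunk_18_4 : chunkPart 797482941914194797434568768743559200 snd4 = 115172306409617795641599860590120027387024071837902794279069360843899110468867759209825159687208872394221959538568815420984105836007872400269596968150084677563059008 := by decide +kernel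

theorem chunk_18_5 : chunkPart 797482941914194797434568768743559200 snd5 = 309525608872373606772469498210538550281424422637800513491745931972368761824993605459102683558127523559903467515776773243233839309766107068129936923255542157458541376 := by decide +kernel

theorem chunk_18_6 : chunkPart 797482941914194797434568768743559200 snd6 = 93577533925386132915437825810908341193515765743505141471575253828767545187464551934305027073556896501553958617427441342750155220662970105309439146552021601463831360 := by decide +kernel

end Cfsg.Agent.Helper27.M22B
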