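import Cfsg.Agent.Helper27.M22B.Codes

/-! Census of the stabiliser of two points in `M24`, part 19 (generated). -/

set_option autoImplicit false
set_option maxRecDepth 1000000
set_option Elab.async false

namespace Cfsg.Agent.Helper27.M22B

theorem chunk_19_0 : chunkPart 724542468775110130421403421957149728 snd0 = 158361889134392963831417473042126429646615850966480689666578870406457350330223914032291960387016433657794647601109189343749702341372348206955467180605349285995744064 := by decide +kernel

theorem chunk_19_1 : chunkPart 724542468775110130421403421957149728 snd1 = 143965375289067592533525604827349055823011518925348997612834539552542050719608397477084423964600857932057485806619923210775528871832756112414073891133842068909067072 := by decide +kernel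

theorem chunk_19_2 : chunkPart 724542468775110130421403421957149728 snd2 = 122370595940057910032888211233066384221770468445538659679533381633473907210557752592387814702666537750837351418257258872854460054794416821206783912795703577751325504 := by decide +kernel

theorem chunk_19_3 : chunkPart 724542468775110130421403421957149728 snd3 = 349116043399546254663742819096083588848913667569684766554511402022588793926167742083894692582824124960929603692657641980447214274241117821590751074420592898123762496 := by decide +kernel

theorem chunk_19_4 : chunkPart 724542468775110130421403421957149728 snd4 = 190754078752346295452078495550676775552177916809119869921194891537542506513322608866813784082883466543610372566364201791643620057886280882522789644581493715966626624 := by decide +kernel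

theorem chunk_19_5 : chunkPart 724542468775110130421403421957149728 snd5 = 136767089190993574285854404527944429976754125577973101282549837039584241364739501169389396669815328321269702417390783585007710493390027773934129814332913883979713344 := by decide +kernel

theorem chunk_19_6 : chunkPart 724542468775110130421403421957149728 snd6 = 129568854578918374005134775401350430709746193236593028641598774799669168617197972851822315293481249379287298023614033926550069950717078400968309567437043011875244864 := by decide +kernel

end Cfsg.Agent.Helper27.M22B
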