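import Cfsg.Agent.Helper27.M22B.Codes

/-! Census of the stabiliser of two points in `M24`, part 2 (generated). -/

set_option autoImplicit false
set_option maxRecDepth 1000000
set_option Elab.async false

namespace Cfsg.Agent.Helper27.M22B

theorem chunk_2_0 : chunkPart 256170100570011867188574873935450144 snd0 = 151163644225111453182959618742653847196338790525849658787458398446424365318021412463099077962357531964512145978341867197843634418335062860371687243917562839352478528 := by decide +kernel

theorem chunk_2_1 : chunkPart 256170100570011867188574873935450144 snd1 = 133167978749774911318177382884717849072208024641260803910002250562039397157635315490585320913614605971588710368267970553400351039670438932447036443614933470698015552 := by decide +kernel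

theorem chunk_2_2 : chunkPart 256170100570011867188574873935450144 snd2 = 136767116650210401983104413372712057511290601864144106347216472251638709669641030076465140972384640744949223834834639886379208637741414629885161113541529856269880128 := by decide +kernel

theorem chunk_2_3 : chunkPart 256170100570011867188574873935450144 snd3 = 129568833984545033947587767610180126109201502497477205169569675639850677774273981573795645631070136395163990900331800496786363900684436199645265961509450230991424320 := by decide +kernel

theorem chunk_2_4 : chunkPart 256170100570011867188574873935450144 snd4 = 316723826322435016358043477605741235884756275100012887134731142693768738391887297893506734455378943568614869067063498477740576683713077982556153184353403802369395520 := by decide +kernel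

theorem chunk_2_5 : chunkPart 256170100570011867188574873935450144 snd5 = 176357568339396840507088350463512071861058295202618297962133576078394110405292237616108702495943631210976078294846267764139751149549354939121464055388351754510797632 := by decide +kernel

theorem chunk_2_6 : chunkPart 256170100570011867188574873935450144 snd6 = 140366230523818074831775603925738004006793844826196329947318238533147669454064755718570334295017269098201935040813645815478802439140574932347972288747020986246761280 := by decide +kernel

end Cfsg.Agent.Helper27.M22B
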