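import Cfsg.Agent.Helper27.M22B.Codes

/-! Census of the stabiliser of two points in `M24`, part 20 (generated). -/

set_option autoImplicit false
set_option maxRecDepth 1000000
set_option Elab.async false

namespace Cfsg.Agent.Helper27.M22B

theorem chunk_20_0 : chunkPart 378412943505327202910290189302192160 snd0 = 147564526919121317184562047964304400505828243292904661673401520835935453463120225120765800888380936845629658943609390169947934827477261415914852048017503664734210880 := by decide +kernel

theorem chunk_20_1 : chunkPart 378412943505327202910290189302192160 snd1 = 147564489162701452547642671852405885134868385424641495357937388992360844822633894564050607414682773560990872363008728648984879275005389335154247646610143475434261312 := by decide +kernel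

theorem chunk_20_2 : chunkPart 378412943505327202910290189302192160 snd2 = 118771447742429202578263256097085070104664815762245861333379259629548851904123999566281650940571799523097623439985681786954919463772911812151118391947425921558907712 := by decide +kernel

theorem chunk_20_3 : chunkPart 378412943505327202910290189302192160 snd3 = 140366254550619705451368046159907252882976084444202423600281043274201533862823664713413303416490044099703425388625677022488422132267507511985567077066873638330829632 := by decide +kernel

theorem chunk_20_4 : chunkPart 378412943505327202910290189302192160 snd4 = 147564523486706120153730733425522775944299424381108662102667556939028609036027442371839070011021942589737527081479996791402991899754562175907519488153807872969411392 := by decide +kernel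

theorem chunk_20_5 : chunkPart 378412943505327202910290189302192160 snd5 = 118771427148003488295963877598605428557226504400636182525289217658715482968794467940098789510611588205052561406087445994973063561335075524981452157719966715108920128 := by decide +kernel

theorem chunk_20_6 : chunkPart 378412943505327202910290189302192160 snd6 = 320322998546848987529169394888685836096588075000654598821046505615736809166503537174323455608025498012742383325632950074926713329534843746424072638719179847297403712 := by decide +kernel

end Cfsg.Agent.Helper27.M22B
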