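import Cfsg.Agent.Helper27.M22B.Codes

/-! Census of the stabiliser of two points in `M24`, part 21 (generated). -/

set_option autoImplicit false
set_option maxRecDepth 1000000
set_option Elab.async false

namespace Cfsg.Agent.Helper27.M22B

theorem chunk_21_0 : chunkPart 153927382610124953377320007682808864 snd0 = 172758440736141473141227977935811943749203751719327607604061886852301920076887803533753055067808429033857036781282431937887802980332829892554090969878493483008789312 := by decide +kernel

theorem chunk_21_1 : chunkPart 153927382610124953377320007682808864 snd1 = 154762764963565887015115472282127381600102144707175359076518339963070984539752014654400843449483511051568417530205850262501197269680714550237132602292028581479451456 := by decide +kernel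

theorem chunk_21_2 : chunkPart 153927382610124953377320007682808864 snd2 = 154762771828373367317548863781109722166765018977863499136701063557152758765986640849620940691904774180172154970124018041005180385089755965342472203896535491018754880 := by decide +kernel

theorem chunk_21_3 : chunkPart 153927382610124953377320007682808864 snd3 = 165560178664872358919365843878369467589611884179977479881205815365796053366733981866372029155737103436741330478665241240552359333744790969531388687666041588583238464 := by decide +kernel

theorem chunk_21_4 : chunkPart 153927382610124953377320007682808864 snd4 = 133167995911778881822768873728494680658015386790577164568551584686580046784353041852720099281386683172519907903389703703148973673196484304815750977409354483556682560 := by decide +kernel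

theorem chunk_21_5 : chunkPart 153927382610124953377320007682808864 snd5 = 125969709813681949843964107306473309515874944849155770911425471749759480508614436081635064993198679085895843123464202991741486860697986498683336906229970351853407040 := by decide +kernel

theorem chunk_21_6 : chunkPart 153927382610124953377320007682808864 snd6 = 352715140111185964279535384986209425662768679321089851993491007965035653811673629800584887470882712403704461949254027340604101445961522691598954936352869322774809408 := by decide +kernel

end Cfsg.Agent.Helper27.M22B
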