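import Cfsg.Agent.Helper27.M22B.Codes

/-! Census of the stabiliser of two points in `M24`, part 3 (generated). -/

set_option autoImplicit false
set_option maxRecDepth 1000000
set_option Elab.async false

namespace Cfsg.Agent.Helper27.M22B

theorem chunk_3_0 : chunkPart 918495510336387780889741426664444960 snd0 = 165560185529683112609285374037520102595226740239686050215741580806674109427087297296905889040426542195256124152517370055379827531754812920910704680286667884638243648 := by decide +kernel

theorem chunk_3_1 : chunkPart 918495510336387780889741426664444960 snd1 = 129568833984531940388277937547287412674369250092549846359411878224099167546811742311221062498257686419489179275360156756477096231928816464922305567762558333736717120 := by decide +kernel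

theorem chunk_3_2 : chunkPart 918495510336387780889741426664444960 snd2 = 183555837275460341465830596490509147704492603496384001285873895870969941957748106068995303833162516561405399574210071421784220923564840804109538444870181830304729920 := by decide +kernel

theorem chunk_3_3 : chunkPart 918495510336387780889741426664444960 snd3 = 104374913302681390407410375987682635924898976505704219535308719831306716200738679794821781565419644490393266999611383401237921056119756067025306817579005650308959040 := by decide +kernel

theorem chunk_3_4 : chunkPart 918495510336387780889741426664444960 snd4 = 133167995911755968085391822413777288167172219264494158426996470431061227807221447084482080802991463868388386532042005692294602403029846674106401526070150746098109248 := by decide +kernel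

theorem chunk_3_5 : chunkPart 918495510336387780889741426664444960 snd5 = 107974071797516408201677852092161200280181086010481606612897290009768488658113045807080155812205938340996222380605961347664462448234539470467397281073140937833581376 := by decide +kernel

theorem chunk_3_6 : chunkPart 918495510336387780889741426664444960 snd6 = 349116033102339944283517552087798652296951577623122374906205502133392077088645111072311396270416646943502933183752595917597536426909259822644952936023338050794818368 := by decide +kernel

end Cfsg.Agent.Helper27.M22B
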