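import Cfsg.Agent.Helper27.M22B.Codes

/-! Census of the stabiliser of two points in `M24`, part 4 (generated). -/

set_option autoImplicit false
set_option maxRecDepth 1000000
set_option Elab.async false

namespace Cfsg.Agent.Helper27.M22B

theorem chunk_4_0 : chunkPart 597977031493056924717657166777194528 snd0 = 158361892566817980999733301495659116664963892675450031125730977270151324750828317611273393531942893028618140576625553302890127330207725429766937957949171510085159744 := by decide +kernel

theorem chunk_4_1 : chunkPart 597977031493056924717657166777194528 snd1 = 129568823687335450217337344545581264592320383322476809877386619350306063033309601516324240096315077477210122287446160334592668466814637663516221102582733567105698624 := by decide +kernel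

theorem chunk_4_2 : chunkPart 597977031493056924717657166777194528 snd2 = 125969685786903232964870438143149034533623728072670676157362404466641986773812221254206732594339485597061977578771888797632334751479192090079968145292693260099128128 := by decide +kernel

theorem chunk_4_3 : chunkPart 597977031493056924717657166777194528 snd3 = 136767092623395677760497640531252355890308831292924547803890244612800472491182680217194490320391500778287063223754088600629401701396844285010051965016453320036846400 := by decide +kernel

theorem chunk_4_4 : chunkPart 597977031493056924717657166777194528 snd4 = 323922088393733591142202872446325187652910923660938146606704594103629610750861159544180434257378635402945332295968311119237497209778068917255597899703564981952842560 := by decide +kernel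

theorem chunk_4_5 : chunkPart 597977031493056924717657166777194528 snd5 = 158361913161207688010319772133410873418817562351883296800646842153378923696956248495267192036643462837054252235493630639435333468884279155694259115562433685001079616 := by decide +kernel

theorem chunk_4_6 : chunkPart 597977031493056924717657166777194528 snd6 = 133167968452555507400494519711509189758302239531592265351473513503255557057533981798593821266798492729401951027644174952642829352177996833673568791691224690848697152 := by decide +kernel

end Cfsg.Agent.Helper27.M22B
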