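import Cfsg.Agent.Helper27.M22B.Codes

/-! Census of the stabiliser of two points in `M24`, part 5 (generated). -/

set_option autoImplicit false
set_option maxRecDepth 1000000
set_option Elab.async false

namespace Cfsg.Agent.Helper27.M22B

theorem chunk_5_0 : chunkPart 768102603233686643159977802852834336 snd0 = 122370585642851599674515187054139004075826958871072253139649302037005826452294520468602889928615374708326496127968900623287521808479580662562886375431788571071089472 := by decide +kernel

theorem chunk_5_1 : chunkPart 768102603233686643159977802852834336 snd1 = 129568837416937317250407312210769311451701809194944328642867752921950588475049522566733913791700991087180913553338303914942984019420041952619770986541914880263326528 := by decide +kernel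

theorem chunk_5_2 : chunkPart 768102603233686643159977802852834336 snd2 = 179956695942645661101098331169287786017352756983717182994802890118209706547799957087843573566214715126784227821440142126030582320018087018278556945386296293638277952 := by decide +kernel

theorem chunk_5_3 : chunkPart 768102603233686643159977802852834336 snd3 = 183555854437451218395503487725605019349529370272014925985663843000351362716831270614844081139979703718804054090884457379661719734055357977064826451749533799118015296 := by decide +kernel

theorem chunk_5_4 : chunkPart 768102603233686643159977802852834336 snd4 = 147564496027486019087725062336834251393879524159538674139110990650111721310487944616328152282980647463891908385749787729840108989976267120397354729745219819786996544 := by decide +kernel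

theorem chunk_5_5 : chunkPart 768102603233686643159977802852834336 snd5 = 313124715881160705781249695145355854950159348417789970761061549158107240227522700926442552569110174635541781717943012602206776752447913989622039225591937921460472640 := by decide +kernel

theorem chunk_5_6 : chunkPart 768102603233686643159977802852834336 snd6 = 147564526919082036472293323722119114228884175983425247156975442875117314190928307635410555795626284374490155574973450592912206234488020985108428005844046801002302272 := by decide +kernel

end Cfsg.Agent.Helper27.M22B
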