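import Cfsg.Agent.Helper27.M22B.Codes

/-! Census of the stabiliser of two points in `M24`, part 6 (generated). -/

set_option autoImplicit false
set_option maxRecDepth 1000000
set_option Elab.async false

namespace Cfsg.Agent.Helper27.M22B

theorem chunk_6_0 : chunkPart 727099919142370629867022891522564128 snd0 = 143965371856658942293275286543395753820541408500492427962616393114362994583315841724016948275060882766520147590855220366313273155917942037779372838366951571602803520 := by decide +kernel

theorem chunk_6_1 : chunkPart 727099919142370629867022891522564128 snd1 = 316723836619644600156972356868786142115638267748158797757865513909628017822641944885138359065571290670808351543006928761505764531015680677084144398661486373773511488 := by decide +kernel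

theorem chunk_6_2 : chunkPart 727099919142370629867022891522564128 snd2 = 183555823545838834089113240065524257024274005744640737532146195882406099053716878127485930068735494146275115649906806276116972323252923627751997379534562242034928448 := by decide +kernel

theorem chunk_6_3 : chunkPart 727099919142370629867022891522564128 snd3 = 118771464904406985976722042313609338689570434612071178961584408389560713095454968290798674732704011450063859592937437033737796812312714960048237418441204599535700800 := by decide +kernel

theorem chunk_6_4 : chunkPart 727099919142370629867022891522564128 snd4 = 129568827119714639926507807166976423873449363418869918095975419325444696444961398011436075078990739257032653747194274403894897341266475782439028699475661293248056128 := by decide +kernel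

theorem chunk_6_5 : chunkPart 727099919142370629867022891522564128 snd5 = 115172316706784825312678142975101676764394370706345306884903293512529887040309663931108820346724752923686250062325394628539292759698075371964160263012788800522816320 := by decide +kernel

theorem chunk_6_6 : chunkPart 727099919142370629867022891522564128 snd6 = 140366261415420638988194400035263704714138502492609633234167104709252469339979775026993008107846998025844644536727571824673119743672918625518667623623607299445099328 := by decide +kernel

end Cfsg.Agent.Helper27.M22B
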