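import Cfsg.Agent.Helper27.M22B.Codes

/-! Census of the stabiliser of two points in `M24`, part 7 (generated). -/

set_option autoImplicit false
set_option maxRecDepth 1000000
set_option Elab.async false

namespace Cfsg.Agent.Helper27.M22B

theorem chunk_7_0 : chunkPart 279906786043446255974103428838925344 snd0 = 147564537216321080755475809553033984582613172792600889339286516194707247662517410733535134238724239446710852048414853554863845963601953926238726012696120609994705728 := by decide +kernel

theorem chunk_7_1 : chunkPart 279906786043446255974103428838925344 snd1 = 136767133812178365181643762302251019212068213622757159488825265048463878971033794520266313428625855796066473759522796844296242785150828947041058462805360396411603776 := by decide +kernel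

theorem chunk_7_2 : chunkPart 279906786043446255974103428838925344 snd2 = 133167968452545687216183828153238097913624172774950365364686380011871418596747631094863880561236993187649103404866075492508324885731850606950438596502456525532433216 := by decide +kernel

theorem chunk_7_3 : chunkPart 279906786043446255974103428838925344 snd3 = 151163651089918933454175554509790412608074662644809255172819774710405263752305425053755953885300786846865070709111199524298548042084062487127830409496641766074354496 := by decide +kernel

theorem chunk_7_4 : chunkPart 279906786043446255974103428838925344 snd4 = 334719515824589555767361902431498229504974225480256298097926748504860645601861765048256756895962566742816374937649914254550584269645483091278670182962046003801230144 := by decide +kernel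

theorem chunk_7_5 : chunkPart 279906786043446255974103428838925344 snd5 = 136767109785412741830642431744385349036369957492227121063186340905817756547331435032452764074349842939566271366632685894850835380348788638307665913285006201978882880 := by decide +kernel

theorem chunk_7_6 : chunkPart 279906786043446255974103428838925344 snd6 = 158361902864021018014324625038990930754364501656245704721506585673794434866442079325898941722732211485769602486778287395923945595294307928539491701291973504227347264 := by decide +kernel

end Cfsg.Agent.Helper27.M22B
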