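import Cfsg.Agent.Helper27.M22B.Codes

/-! Census of the stabiliser of two points in `M24`, part 8 (generated). -/

set_option autoImplicit false
set_option maxRecDepth 1000000
set_option Elab.async false

namespace Cfsg.Agent.Helper27.M22B

theorem chunk_8_0 : chunkPart 510778952691257196301479869407275040 snd0 = 143965399315892136921712548153847035082804607968312195437788322289514791150562054362986478363989766356776136276269898756971716813974306396183282554049316734600481600 := by decide +kernel

theorem chunk_8_1 : chunkPart 510778952691257196301479869407275040 snd1 = 89978423484134736035438336716975274273065130706507107934823947562860619373983014279173968774125290171108833015947406713495811322573114048422418441489307936242010944 := by decide +kernel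

theorem chunk_8_2 : chunkPart 510778952691257196301479869407275040 snd2 = 158361889134396237187686155970409199940613628254859177330622658196256621358926052245428627378828353182524274583210407825497389789902165073172749962029191943726041920 := by decide +kernel

theorem chunk_8_3 : chunkPart 510778952691257196301479869407275040 snd3 = 125969709813698316831342869703433156806007461433962058328565776480481277441663975474151860063417720989341730405961536172438972193982652604023925347978516364036934464 := by decide +kernel

theorem chunk_8_4 : chunkPart 510778952691257196301479869407275040 snd4 = 313124722745987826446060957774619713347669119158676187904944827470820043257760185639916870907380319022867618830389863655833169623257449235049123172524296074705242944 := by decide +kernel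

theorem chunk_8_5 : chunkPart 510778952691257196301479869407275040 snd5 = 151163637360326886564833508546028775168805452921205701826421869194253390108107993280768359212484001323892549239916495110848228865239110527548039881310858859276929856 := by decide +kernel

theorem chunk_8_6 : chunkPart 510778952691257196301479869407275040 snd6 = 154762785557971960969376210726721111065287161912583919613836683405088310861290954613765671473497774404708565733655891196846444006072542478007128403528164584189856576 := by decide +kernel

end Cfsg.Agent.Helper27.M22B
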