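import Cfsg.Agent.Helper27.M22B.Codes

/-! Census of the stabiliser of two points in `M24`, part 9 (generated). -/

set_option autoImplicit false
set_option maxRecDepth 1000000
set_option Elab.async false

namespace Cfsg.Agent.Helper27.M22B

theorem chunk_9_0 : chunkPart 295454359023071773698991886911089696 snd0 = 176357582068985613980848547608430021143359662707230110552481564099964144727472744833547584716966249420918019077607633163299977503237840952038007887087579972128213824 := by decide +kernel

theorem chunk_9_1 : chunkPart 295454359023071773698991886911089696 snd1 = 169159309700506916006883792314027900647287346460869396902791421291952157908156459139202156821803145878391793821051674780573707266439974391000929715818514538135817024 := by decide +kernel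

theorem chunk_9_2 : chunkPart 295454359023071773698991886911089696 snd2 = 190754092481928522150866349878398243517297327875375959443223768038618872246488498584408878126754939636306618205677696525226131407599380887737669445116889553159850816 := by decide +kernel

theorem chunk_9_3 : chunkPart 295454359023071773698991886911089696 snd3 = 161961037332002030908055838113311778544293307221323721006700702654786588586051715927787245109403602320469086010782663340134453670323982302276951070441799403343711040 := by decide +kernel

theorem chunk_9_4 : chunkPart 295454359023071773698991886911089696 snd4 = 158361895999229904614982722558625832314945278128589082078368758739450234912556945178467867050017517123304041864638903732923725733912654805194827182521605119788714816 := by decide +kernel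

theorem chunk_9_5 : chunkPart 295454359023071773698991886911089696 snd5 = 158361899431596000802304355583711512421469115770741450614056687108631827569941203077496583282272308015156167431601270752983637983244993219803852416062529167584922432 := by decide +kernel

theorem chunk_9_6 : chunkPart 295454359023071773698991886911089696 snd6 = 388706457332322648722631122088937878542351820638600556881792961490420284204270555469804224375444367045998170119118292979873593439141753322262196789791045323430300480 := by decide +kernel

end Cfsg.Agent.Helper27.M22B
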