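import Cfsg.Agent.Helper27.M22B.Spec
import Cfsg.Agent.Helper27.M22B.Chunk0
import Cfsg.Agent.Helper27.M22B.Chunk1
import Cfsg.Agent.Helper27.M22B.Chunk2
import Cfsg.Agent.Helper27.M22B.Chunk3
import Cfsg.Agent.Helper27.M22B.Chunk4
import Cfsg.Agent.Helper27.M22B.Chunk5
import Cfsg.Agent.Helper27.M22B.Chunk6
import Cfsg.Agent.Helper27.M22B.Chunk7
import Cfsg.Agent.Helper27.M22B.Chunk8
import Cfsg.Agent.Helper27.M22B.Chunk9
import Cfsg.Agent.Helper27.M22B.Chunk10
import Cfsg.Agent.Helper27.M22B.Chunk11
import Cfsg.Agent.Helper27.M22B.Chunk12
import Cfsg.Agent.Helper27.M22B.Chunk13
import Cfsg.Agent.Helper27.M22B.Chunk14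
import Cfsg.Agent.Helper27.M22B.Chunk15
import Cfsg.Agent.Helper27.M22B.Chunk16
import Cfsg.Agent.Helper27.M22B.Chunk17
import Cfsg.Agent.Helper27.M22B.Chunk18
import Cfsg.Agent.Helper27.M22B.Chunk19
import Cfsg.Agent.Helper27.M22B.Chunk20
import Cfsg.Agent.Helper27.M22B.Chunk21

/-!
The census of `G1`: the sums of the individual flags over all elements (generated).
-/

set_option autoImplicit false
set_option maxRecDepth 100000

namespace Cfsg.Agent.Helper27.M22B

open Cfsg Cfsg.Agent.Helper7 Cfsg.Agent.Helper27.FusCode Cfsg.Agent.Helper27.FusTab

attribute [local irreducible] compU semiB oddB inv2 pre3 contrib uPart uSum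

/-- flag of `x * r = r' * x` -/
def flagS (r r' p : ℕ) (x : ℕ) : ℕ := b2n (semiB x r r' p)

/-- flag of `x ^ 2 = 1` -/
def flagI (x : ℕ) : ℕ := b2n (inv2 x)

/-- flag of `x` of order three with `x⁻¹ * r` of odd order -/
def flagU (r : ℕ) (x : ℕ) : ℕ := b2n (is3 x && oddB (compU (compU x x) r))

/-- the flags of the elements of order three -/
def uflags : List (ℕ → ℕ) := [
  flagU 984818244535754528103549039458486304,
  flagU 479663310730678034207776437455390752,
  flagU 725895487971383339971559185675552800,
  flagU 305396578317974284120527770792069152,
  flagU 443022936523562195853578270764271648,
  flagU 483673760568805975520106682392872992,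
  flagU 711797867330123044546319608850123808,
  flagU 226330445112291061870066821137303584,
  flagU 182468382325596310367271496174798880,
  flagU 770303189609338520078999807846747168,
  flagU 758328183602192793601178219946937376,
  flagU 421085907753650777696758307741576224
]

/-- all flags -/
def flags : List (ℕ → ℕ) := [
  flagS 984818244535754528103549039458486304 984818244535754528103549039458486304 2,
  flagS 479663310730678034207776437455390752 479663310730678034207776437455390752 5,
  flagS 725895487971383339971559185675552800 725895487971383339971559185675552800 6,
  flagS 305396578317974284120527770792069152 305396578317974284120527770792069152 4,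
  flagS 443022936523562195853578270764271648 443022936523562195853578270764271648 4,
  flagS 483673760568805975520106682392872992 483673760568805975520106682392872992 4,
  flagS 711797867330123044546319608850123808 711797867330123044546319608850123808 6,
  flagS 226330445112291061870066821137303584 226330445112291061870066821137303584 3,
  flagS 182468382325596310367271496174798880 182468382325596310367271496174798880 3,
  flagS 770303189609338520078999807846747168 770303189609338520078999807846747168 4,
  flagS 758328183602192793601178219946937376 758328183602192793601178219946937376 2,
  flagS 421085907753650777696758307741576224 421085907753650777696758307741576224 2,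
  flagS 305396578317974284120527770792069152 443022936523562195853578270764271648 4,
  flagS 226330445112291061870066821137303584 182468382325596310367271496174798880 3,
  flagS 758328183602192793601178219946937376 421085907753650777696758307741576224 2,
  flagI,
  flagU 984818244535754528103549039458486304,
  flagU 479663310730678034207776437455390752,
  flagU 725895487971383339971559185675552800,
  flagU 305396578317974284120527770792069152,
  flagU 443022936523562195853578270764271648,
  flagU 483673760568805975520106682392872992,
  flagU 711797867330123044546319608850123808,
  flagU 226330445112291061870066821137303584,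
  flagU 182468382325596310367271496174798880,
  flagU 770303189609338520078999807846747168,
  flagU 758328183602192793601178219946937376,
  flagU 421085907753650777696758307741576224
]

theorem uSum_eq (x2 : ℕ) : uSum x2 = pack 1048576 [b2n (oddB (compU x2 984818244535754528103549039458486304)), b2n (oddB (compU x2 479663310730678034207776437455390752)), b2n (oddB (compU x2 725895487971383339971559185675552800)), b2n (oddB (compU x2 305396578317974284120527770792069152)), b2n (oddB (compU x2 443022936523562195853578270764271648)), b2n (oddB (compU x2 483673760568805975520106682392872992)), b2n (oddB (compU x2 711797867330123044546319608850123808)), b2n (oddB (compU x2 226330445112291061870066821137303584)), b2n (oddB (compU x2 182468382325596310367271496174798880)), b2n (oddB (compU x2 770303189609338520078999807846747168)), b2n (oddB (compU x2 758328183602192793601178219946937376)), b2n (oddB (compU x2 421085907753650777696758307741576224))] := by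
  unfold uSum
  simp only [forceNat_eq]
  rfl

theorem uPart_eq (x : ℕ) : uPart x = pack 1048576 (uflags.map (fun f => f x)) := by
  unfold uPart
  simp only [forceNat_eq, uflags, List.map_cons, List.map_nil, flagU, is3]
  cases h1 : pre3 x
  · simp [pack, b2n]
  · cases h2 : (Nat.beq (compU (compU x x) x) idc && !(Nat.beq x idc))
    · simp [pack, b2n]
    · simp only [cond_true, Bool.true_and, uSum_eq]

theorem contrib_eq (x : ℕ) : contrib x = pack 1048576 (flags.map (fun f => f x)) := by
  unfold contrib
  rw [uPart_eq]
  rfl

theorem flag_le_one : ∀ f ∈ flags, ∀ x, f x ≤ 1 := by
  intro f hf x
  simp only [flags, List.mem_cons, List.not_mem_nil, or_false] at hf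
  rcases hf with rfl | rfl | rfl | rfl | rfl | rfl | rfl | rfl | rfl | rfl | rfl | rfl | rfl | rfl | rfl | rfl | rfl | rfl | rfl | rfl | rfl | rfl | rfl | rfl | rfl | rfl | rfl | rfl <;> exact b2n_le _

theorem sum_map_flatMap {α β : Type*} (g : α → List β) (f : β → ℕ) : ∀ l : List α,
    ((l.flatMap g).map f).sum = (l.map (fun a => ((g a).map f).sum)).sum
  | [] => rfl
  | a :: l => by
    rw [List.flatMap_cons, List.map_append, List.sum_append, List.map_cons, List.sum_cons,
      sum_map_flatMap g f l]

theorem chunkPart_eq (t : ℕ) (us : List ℕ) : chunkPart t us =
    ((us.flatMap (fun u => l960C.map (fun l => compU (compU t u) l))).map contrib).sum := by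
  unfold chunkPart
  rw [ssum_eq, zero_add, sum_map_flatMap]
  refine congrArg List.sum (List.map_congr_left fun u _ => ?_)
  rw [forceNat_eq, ssum_eq, zero_add, List.map_map]
  refine congrArg List.sum (List.map_congr_left fun l _ => ?_)
  rw [forceNat_eq, Function.comp_apply]

theorem chunkPart_append (t : ℕ) (a b : List ℕ) :
    chunkPart t (a ++ b) = chunkPart t a + chunkPart t b := by
  rw [chunkPart_eq, chunkPart_eq, chunkPart_eq, List.flatMap_append, List.map_append, List.sum_append]

theorem sndC_split : sndC = snd0 ++ snd1 ++ snd2 ++ snd3 ++ snd4 ++ snd5 ++ snd6 := by decide +kernel

theorem chunkSum_eq (t : ℕ) : chunkSum t = ((codesOf t).map contrib).sum := by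
  unfold chunkSum codesOf
  exact chunkPart_eq t sndC

theorem chunkSum_split (t : ℕ) : chunkSum t = chunkPart t snd0 + chunkPart t snd1 + chunkPart t snd2 +
    chunkPart t snd3 + chunkPart t snd4 + chunkPart t snd5 + chunkPart t snd6 := by
  unfold chunkSum
  rw [sndC_split]
  simp only [chunkPart_append]

attribute [local irreducible] chunkSum chunkPart ssum

theorem chunk_0 : chunkSum 984818244535754528103549039458486304 = 5521072273968034357753598366464850957846178707227292365231261818972616157709652716873056708576311803917493545433119980723295506516591546550018906134348943407880097472 := by
  rw [chunkSum_split, chunk_0_0, chunk_0_1, chunk_0_2, chunk_0_3, chunk_0_4, chunk_0_5, chunk_0_6]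

theorem chunk_1 : chunkSum 216952713852147572421861260223024160 = 1227305021788132307451640849942181942169645418714898907694711189840030606476204956364969105435907438393742632876174459432063731270565405902830706830215049925904846528 := by
  rw [chunkSum_split, chunk_1_0, chunk_1_1, chunk_1_2, chunk_1_3, chunk_1_4, chunk_1_5, chunk_1_6]

theorem chunk_2 : chunkSum 256170100570011867188574873935450144 = 1184115198795291732128736614605255191641647334657559289258429754205263668170816030832130956725766758954006953484499690191768688268834360476374740291072252940438752960 := by
  rw [chunkSum_split, chunk_2_0, chunk_2_1, chunk_2_2, chunk_2_3, chunk_2_4, chunk_2_5, chunk_2_6]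

theorem chunk_3 : chunkSum 918495510336387780889741426664444960 = 1173317870903969105441391510656736439643292453232422257342435337307271728686365429435817669822880438819431512098099544592435667021541872224186607253665043433715158720 := by
  rw [chunkSum_split, chunk_3_0, chunk_3_1, chunk_3_2, chunk_3_3, chunk_3_4, chunk_3_5, chunk_3_6]

theorem chunk_4 : chunkSum 597977031493056924717657166777194528 = 1166119464671949128495455889006887022511247560907935773723195195460163938554484210437040304103809547850578839225703807747060192280738744374996604977798275015129452224 := by
  rw [chunkSum_split, chunk_4_0, chunk_4_1, chunk_4_2, chunk_4_3, chunk_4_4, chunk_4_5, chunk_4_6]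

theorem chunk_5 : chunkSum 768102603233686643159977802852834336 = 1223705712267614557762792399364110341467333943882502582820131770760853759920914223916205719074227891115019537272298054968881899858885269705653862720290738086340480704 := by
  rw [chunkSum_split, chunk_5_0, chunk_5_1, chunk_5_2, chunk_5_3, chunk_5_4, chunk_5_5, chunk_5_6]

theorem chunk_6 : chunkSum 727099919142370629867022891522564128 = 1148123902168469466743463275968657297002006353223188000429258328843184877380380469996977815675634169240231022722953633294781116667136731082585608621116262180162916032 := by
  rw [chunkSum_split, chunk_6_0, chunk_6_1, chunk_6_2, chunk_6_3, chunk_6_4, chunk_6_5, chunk_6_6]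

theorem chunk_7 : chunkSum 279906786043446255974103428838925344 = 1198511819044987382219807913733188023612088906463846793248237611049920645998239540809029744806932496445443748712975812961292326921857275625483881279039605008020557504 := by
  rw [chunkSum_split, chunk_7_0, chunk_7_1, chunk_7_2, chunk_7_3, chunk_7_4, chunk_7_5, chunk_7_6]

theorem chunk_8 : chunkSum 510778952691257196301479869407275040 = 1137326567412408100956450587592034265684252562356106348377004084599275053552294229896191836173723225451219708085351499431931732615001340362406667762909652496777498304 := by
  rw [chunkSum_split, chunk_8_0, chunk_8_1, chunk_8_2, chunk_8_3, chunk_8_4, chunk_8_5, chunk_8_6]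

theorem chunk_9 : chunkSum 295454359023071773698991886911089696 = 1403662274346571637186572728145443167131003858802730277479415863423824110154938122210714539482662129440543896530478135275015227003900579880314434506839963077571530432 := by
  rw [chunkSum_split, chunk_9_0, chunk_9_1, chunk_9_2, chunk_9_3, chunk_9_4, chunk_9_5, chunk_9_6]

theorem chunk_10 : chunkSum 303122133133286851481316558799745056 = 1151723043501375802029607890510775474597356657559796699844901364220835411957965211215278871025936019591444492878505596846609834549740605623838627762504176352391876288 := by
  rw [chunkSum_split, chunk_10_0, chunk_10_1, chunk_10_2, chunk_10_3, chunk_10_4, chunk_10_5, chunk_10_6]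

theorem chunk_11 : chunkSum 879064614151024110398765003454297120 = 1241701350283829200273562378083014637124557055532266832339399901331832188864497390622482789023405410579996454370629470210057879277080518139193536855109734060653563584 := by
  rw [chunkSum_split, chunk_11_0, chunk_11_1, chunk_11_2, chunk_11_3, chunk_11_4, chunk_11_5, chunk_11_6]

theorem chunk_12 : chunkSum 797318700030328312851588429149616160 = 1209309167530683348955334785776217485816202677772257581924078976864400596894044405632773266728055023828065014947451247157846332335901248460609654813927205141041139392 := by
  rw [chunkSum_split, chunk_12_0, chunk_12_1, chunk_12_2, chunk_12_3, chunk_12_4, chunk_12_5, chunk_12_6]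

theorem chunk_13 : chunkSum 147192898613228835777360639198510112 = 1184115027175121091530306264709000480913060834637189838734087644002937879021315215288952698773957179997450941145874128495756131676835049782181305939110829702676238016 := by
  rw [chunkSum_split, chunk_13_0, chunk_13_1, chunk_13_2, chunk_13_3, chunk_13_4, chunk_13_5, chunk_13_6]

theorem chunk_14 : chunkSum 545322434642496914178706348964102176 = 1155322157374940920815985168016711848104980723050532765336258544385036048919033166668491038391723328190238252401149992412500886332957301125956153953238572316649082560 := by
  rw [chunkSum_split, chunk_14_0, chunk_14_1, chunk_14_2, chunk_14_3, chunk_14_4, chunk_14_5, chunk_14_6]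

theorem chunk_15 : chunkSum 810554161304948919008999514178798624 = 960969115774725332162533760672161788812623160462050282753334462864766390094508362809426971920918378890875699264870837500657970509446619912221314556400752584292323008 := by
  rw [chunkSum_split, chunk_15_0, chunk_15_1, chunk_15_2, chunk_15_3, chunk_15_4, chunk_15_5, chunk_15_6]

theorem chunk_16 : chunkSum 558866075274498647873793289023604768 = 1238102154032580864629834797388272185794023652293342615421402690971181892400332808596590386569759079260550194197188286120389086407979474173926065345162036713246183104 := by
  rw [chunkSum_split, chunk_16_0, chunk_16_1, chunk_16_2, chunk_16_3, chunk_16_4, chunk_16_5, chunk_16_6]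

theorem chunk_17 : chunkSum 340992244616271963265676300090854432 = 1108533525992119484055883913116758449896025559128990464431797258090428862919182984697909504942286120931379076207464550456263173441854374091351788004073102148991209152 := by
  rw [chunkSum_split, chunk_17_0, chunk_17_1, chunk_17_2, chunk_17_3, chunk_17_4, chunk_17_5, chunk_17_6]

theorem chunk_18 : chunkSum 797482941914194797434568768743559200 = 1101335263920870010196399682938034535713029169038780425130616047428445714788355456951528445492445642942544000168312280909334605984216316899388739105454468274849861312 := by
  rw [chunkSum_split, chunk_18_0, chunk_18_1, chunk_18_2, chunk_18_3, chunk_18_4, chunk_18_5, chunk_18_6]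

theorem chunk_19 : chunkSum 724542468775110130421403421957149728 = 1230903926285322964804641783678597094778989741530739113358801696991858018681817889073684387683287998545786461526013032711028306044234026019592305085306938442601483968 := by
  rw [chunkSum_split, chunk_19_0, chunk_19_1, chunk_19_2, chunk_19_3, chunk_19_4, chunk_19_5, chunk_19_6]

theorem chunk_20 : chunkSum 378412943505327202910290189302192160 = 1140925667556430273740700027986516649226451532706393885414002492945527585224027231450772677789784582836954051948429870489678924489147551522518829448234901135433944768 := by
  rw [chunkSum_split, chunk_20_0, chunk_20_1, chunk_20_2, chunk_20_3, chunk_20_4, chunk_20_5, chunk_20_6]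

theorem chunk_21 : chunkSum 153927382610124953377320007682808864 = 1259697002029599882339526523898595930942341810545166733171955170139696897854001548639086920110401892364459152736385475517441101948704084872763127283725293302275133120 := by
  rw [chunkSum_split, chunk_21_0, chunk_21_1, chunk_21_2, chunk_21_3, chunk_21_4, chunk_21_5, chunk_21_6]

/-- the total of the census -/
def censusN : ℕ := 30365897506825026951674227112254001210428339673725989833464717204699352034223371602419112358329816557587455188233929387446090321423150296808393468529543795747043329152

theorem census_total : (codes.map contrib).sum = censusN := by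
  unfold codes
  rw [sum_map_flatMap]
  have h : ∀ t ∈ topC, ((codesOf t).map contrib).sum = chunkSum t := fun t _ => (chunkSum_eq t).symm
  rw [List.map_congr_left h]
  show (List.map chunkSum [984818244535754528103549039458486304, 216952713852147572421861260223024160, 256170100570011867188574873935450144, 918495510336387780889741426664444960, 597977031493056924717657166777194528, 768102603233686643159977802852834336, 727099919142370629867022891522564128, 279906786043446255974103428838925344, 510778952691257196301479869407275040, 295454359023071773698991886911089696, 303122133133286851481316558799745056, 879064614151024110398765003454297120, 797318700030328312851588429149616160, 147192898613228835777360639198510112, 545322434642496914178706348964102176, 810554161304948919008999514178798624, 558866075274498647873793289023604768, 340992244616271963265676300090854432, 797482941914194797434568768743559200, 724542468775110130421403421957149728, 378412943505327202910290189302192160, 153927382610124953377320007682808864]).sum = censusN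
  rw [List.map_cons, List.sum_cons, chunk_0,
    List.map_cons, List.sum_cons, chunk_1,
    List.map_cons, List.sum_cons, chunk_2,
    List.map_cons, List.sum_cons, chunk_3,
    List.map_cons, List.sum_cons, chunk_4,
    List.map_cons, List.sum_cons, chunk_5,
    List.map_cons, List.sum_cons, chunk_6,
    List.map_cons, List.sum_cons, chunk_7,
    List.map_cons, List.sum_cons, chunk_8,
    List.map_cons, List.sum_cons, chunk_9,
    List.map_cons, List.sum_cons, chunk_10,
    List.map_cons, List.sum_cons, chunk_11,
    List.map_cons, List.sum_cons, chunk_12,
    List.map_cons, List.sum_cons, chunk_13,
    List.map_cons, List.sum_cons, chunk_14,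
    List.map_cons, List.sum_cons, chunk_15,
    List.map_cons, List.sum_cons, chunk_16,
    List.map_cons, List.sum_cons, chunk_17,
    List.map_cons, List.sum_cons, chunk_18,
    List.map_cons, List.sum_cons, chunk_19,
    List.map_cons, List.sum_cons, chunk_20,
    List.map_cons, List.sum_cons, chunk_21,
    List.map_nil, List.sum_nil]
  decide +kernel

theorem sum_le_length (f : ℕ → ℕ) (hf : ∀ x, f x ≤ 1) : ∀ l : List ℕ, (l.map f).sum ≤ l.length
  | [] => by simp
  | a :: l => by
    have h1 := sum_le_length f hf l
    have h2 := hf a
    simp only [List.map_cons, List.sum_cons, List.length_cons]
    omega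

/-- reading off the sum of one flag from the packed total -/
theorem digit_of_total (L : List ℕ) (fs : List (ℕ → ℕ)) (B N : ℕ) (hB : 0 < B) (hlen : L.length < B)
    (h01 : ∀ f ∈ fs, ∀ x, f x ≤ 1)
    (htot : (L.map (fun x => pack B (fs.map (fun f => f x)))).sum = N) (j : ℕ) (hj : j < fs.length) :
    (L.map (fs[j])).sum = N / B ^ j % B := by
  rw [pack_sum] at htot
  have h2 := pack_digit B hB (fs.map (fun f => (L.map f).sum)) (by
    intro a ha
    rw [List.mem_map] at ha
    obtain ⟨f, hf, rfl⟩ := ha
    exact lt_of_le_of_lt (sum_le_length f (h01 f hf) L) hlen) j (by rw [List.length_map]; exact hj)
  rw [htot, List.getElem_map] at h2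
  exact h2

theorem flags_length : flags.length = 28 := rfl

theorem census_total' :
    (codes.map (fun x => pack 1048576 (flags.map (fun f => f x)))).sum = censusN := by
  rw [← census_total]
  exact congrArg List.sum (List.map_congr_left fun x _ => (contrib_eq x).symm)

/-- the sum of a flag over all codes -/
theorem flag_sum (j : ℕ) (hj : j < flags.length) :
    (codes.map (flags[j])).sum = censusN / 1048576 ^ j % 1048576 :=
  digit_of_total codes flags 1048576 censusN (by norm_num) (by rw [codes_length]; norm_num)
    flag_le_one census_total' j hj

theorem count_0 : (codes.map (flagS 984818244535754528103549039458486304 984818244535754528103549039458486304 2)).sum = 443520 := by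
  have h := flag_sum 0 (by rw [flags_length]; norm_num)
  rw [show censusN / 1048576 ^ 0 % 1048576 = 443520 by decide +kernel] at h
  exact h

theorem count_1 : (codes.map (flagS 479663310730678034207776437455390752 479663310730678034207776437455390752 5)).sum = 384 := by
  have h := flag_sum 1 (by rw [flags_length]; norm_num)
  rw [show censusN / 1048576 ^ 1 % 1048576 = 384 by decide +kernel] at h
  exact h

theorem count_2 : (codes.map (flagS 725895487971383339971559185675552800 725895487971383339971559185675552800 6)).sum = 36 := by
  have h := flag_sum 2 (by rw [flags_length]; norm_num)
  rw [show censusN / 1048576 ^ 2 % 1048576 = 36 by decide +kernel] at h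
  exact h

theorem count_3 : (codes.map (flagS 305396578317974284120527770792069152 305396578317974284120527770792069152 4)).sum = 32 := by
  have h := flag_sum 3 (by rw [flags_length]; norm_num)
  rw [show censusN / 1048576 ^ 3 % 1048576 = 32 by decide +kernel] at h
  exact h

theorem count_4 : (codes.map (flagS 443022936523562195853578270764271648 443022936523562195853578270764271648 4)).sum = 16 := by
  have h := flag_sum 4 (by rw [flags_length]; norm_num)
  rw [show censusN / 1048576 ^ 4 % 1048576 = 16 by decide +kernel] at h
  exact h

theorem count_5 : (codes.map (flagS 483673760568805975520106682392872992 483673760568805975520106682392872992 4)).sum = 5 := by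
  have h := flag_sum 5 (by rw [flags_length]; norm_num)
  rw [show censusN / 1048576 ^ 5 % 1048576 = 5 by decide +kernel] at h
  exact h

theorem count_6 : (codes.map (flagS 711797867330123044546319608850123808 711797867330123044546319608850123808 6)).sum = 12 := by
  have h := flag_sum 6 (by rw [flags_length]; norm_num)
  rw [show censusN / 1048576 ^ 6 % 1048576 = 12 by decide +kernel] at h
  exact h

theorem count_7 : (codes.map (flagS 226330445112291061870066821137303584 226330445112291061870066821137303584 3)).sum = 7 := by
  have h := flag_sum 7 (by rw [flags_length]; norm_num)
  rw [show censusN / 1048576 ^ 7 % 1048576 = 7 by decide +kernel] at h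
  exact h

theorem count_8 : (codes.map (flagS 182468382325596310367271496174798880 182468382325596310367271496174798880 3)).sum = 7 := by
  have h := flag_sum 8 (by rw [flags_length]; norm_num)
  rw [show censusN / 1048576 ^ 8 % 1048576 = 7 by decide +kernel] at h
  exact h

theorem count_9 : (codes.map (flagS 770303189609338520078999807846747168 770303189609338520078999807846747168 4)).sum = 8 := by
  have h := flag_sum 9 (by rw [flags_length]; norm_num)
  rw [show censusN / 1048576 ^ 9 % 1048576 = 8 by decide +kernel] at h
  exact h

theorem count_10 : (codes.map (flagS 758328183602192793601178219946937376 758328183602192793601178219946937376 2)).sum = 11 := by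
  have h := flag_sum 10 (by rw [flags_length]; norm_num)
  rw [show censusN / 1048576 ^ 10 % 1048576 = 11 by decide +kernel] at h
  exact h

theorem count_11 : (codes.map (flagS 421085907753650777696758307741576224 421085907753650777696758307741576224 2)).sum = 11 := by
  have h := flag_sum 11 (by rw [flags_length]; norm_num)
  rw [show censusN / 1048576 ^ 11 % 1048576 = 11 by decide +kernel] at h
  exact h

theorem count_12 : (codes.map (flagS 305396578317974284120527770792069152 443022936523562195853578270764271648 4)).sum = 0 := by
  have h := flag_sum 12 (by rw [flags_length]; norm_num)
  rw [show censusN / 1048576 ^ 12 % 1048576 = 0 by decide +kernel] at h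
  exact h

theorem count_13 : (codes.map (flagS 226330445112291061870066821137303584 182468382325596310367271496174798880 3)).sum = 0 := by
  have h := flag_sum 13 (by rw [flags_length]; norm_num)
  rw [show censusN / 1048576 ^ 13 % 1048576 = 0 by decide +kernel] at h
  exact h

theorem count_14 : (codes.map (flagS 758328183602192793601178219946937376 421085907753650777696758307741576224 2)).sum = 0 := by
  have h := flag_sum 14 (by rw [flags_length]; norm_num)
  rw [show censusN / 1048576 ^ 14 % 1048576 = 0 by decide +kernel] at h
  exact h

theorem count_15 : (codes.map (flagI)).sum = 1156 := by
  have h := flag_sum 15 (by rw [flags_length]; norm_num)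
  rw [show censusN / 1048576 ^ 15 % 1048576 = 1156 by decide +kernel] at h
  exact h

theorem count_16 : (codes.map (flagU 984818244535754528103549039458486304)).sum = 12320 := by
  have h := flag_sum 16 (by rw [flags_length]; norm_num)
  rw [show censusN / 1048576 ^ 16 % 1048576 = 12320 by decide +kernel] at h
  exact h

theorem count_17 : (codes.map (flagU 479663310730678034207776437455390752)).sum = 8928 := by
  have h := flag_sum 17 (by rw [flags_length]; norm_num)
  rw [show censusN / 1048576 ^ 17 % 1048576 = 8928 by decide +kernel] at h
  exact h

theorem count_18 : (codes.map (flagU 725895487971383339971559185675552800)).sum = 9215 := by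
  have h := flag_sum 18 (by rw [flags_length]; norm_num)
  rw [show censusN / 1048576 ^ 18 % 1048576 = 9215 by decide +kernel] at h
  exact h

theorem count_19 : (codes.map (flagU 305396578317974284120527770792069152)).sum = 8528 := by
  have h := flag_sum 19 (by rw [flags_length]; norm_num)
  rw [show censusN / 1048576 ^ 19 % 1048576 = 8528 by decide +kernel] at h
  exact h

theorem count_20 : (codes.map (flagU 443022936523562195853578270764271648)).sum = 8704 := by
  have h := flag_sum 20 (by rw [flags_length]; norm_num)
  rw [show censusN / 1048576 ^ 20 % 1048576 = 8704 by decide +kernel] at h
  exact h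

theorem count_21 : (codes.map (flagU 483673760568805975520106682392872992)).sum = 8740 := by
  have h := flag_sum 21 (by rw [flags_length]; norm_num)
  rw [show censusN / 1048576 ^ 21 % 1048576 = 8740 by decide +kernel] at h
  exact h

theorem count_22 : (codes.map (flagU 711797867330123044546319608850123808)).sum = 8238 := by
  have h := flag_sum 22 (by rw [flags_length]; norm_num)
  rw [show censusN / 1048576 ^ 22 % 1048576 = 8238 by decide +kernel] at h
  exact h

theorem count_23 : (codes.map (flagU 226330445112291061870066821137303584)).sum = 8624 := by
  have h := flag_sum 23 (by rw [flags_length]; norm_num)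
  rw [show censusN / 1048576 ^ 23 % 1048576 = 8624 by decide +kernel] at h
  exact h

theorem count_24 : (codes.map (flagU 182468382325596310367271496174798880)).sum = 8624 := by
  have h := flag_sum 24 (by rw [flags_length]; norm_num)
  rw [show censusN / 1048576 ^ 24 % 1048576 = 8624 by decide +kernel] at h
  exact h

theorem count_25 : (codes.map (flagU 770303189609338520078999807846747168)).sum = 8352 := by
  have h := flag_sum 25 (by rw [flags_length]; norm_num)
  rw [show censusN / 1048576 ^ 25 % 1048576 = 8352 by decide +kernel] at h
  exact h

theorem count_26 : (codes.map (flagU 758328183602192793601178219946937376)).sum = 8437 := by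
  have h := flag_sum 26 (by rw [flags_length]; norm_num)
  rw [show censusN / 1048576 ^ 26 % 1048576 = 8437 by decide +kernel] at h
  exact h

theorem count_27 : (codes.map (flagU 421085907753650777696758307741576224)).sum = 8437 := by
  have h := flag_sum 27 (by rw [flags_length]; norm_num)
  rw [show censusN / 1048576 ^ 27 % 1048576 = 8437 by decide +kernel] at h
  exact h

end Cfsg.Agent.Helper27.M22B
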