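import Cfsg.Agent.Helper27.M22B.ClassData
import Cfsg.Agent.Helper27.ClassAlg

/-!
The twelve class representatives of `G1` are pairwise not conjugate and every element is conjugate to one
of them; the resulting class function `κ` with values in the ten cells.
-/

set_option autoImplicit false
set_option maxRecDepth 100000

namespace Cfsg.Agent.Helper27.M22B

open Cfsg Cfsg.Agent.Helper7 Cfsg.Agent.Helper27.FusCode Cfsg.Agent.Helper27.FusTab

noncomputable instance fintypeG1 : Fintype G1 := Fintype.ofFinite G1

noncomputable instance decEqG1 : DecidableEq G1 := Classical.decEq G1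

theorem card_G1' : Fintype.card G1 = 443520 := by
  rw [← Nat.card_eq_fintype_card, card_G1]

/-- conjugate elements have centralisers of the same size -/
theorem card_comm_of_isConj {Γ : Type*} [Group Γ] {a b : Γ} (h : IsConj a b) :
    Nat.card {g : Γ // g * a = a * g} = Nat.card {g : Γ // g * b = b * g} := by
  obtain ⟨c, hc⟩ := isConj_iff.mp h
  apply Nat.card_congr
  refine (MulAut.conj c).toEquiv.subtypeEquiv ?_
  intro g
  show g * a = a * g ↔ c * g * c⁻¹ * b = b * (c * g * c⁻¹)
  rw [← hc]
  constructor
  · intro e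
    have : c * g * c⁻¹ * (c * a * c⁻¹) = c * (g * a) * c⁻¹ := by group
    rw [this, e]
    group
  · intro e
    have h1 : c * g * c⁻¹ * (c * a * c⁻¹) = c * (g * a) * c⁻¹ := by group
    have h2 : c * a * c⁻¹ * (c * g * c⁻¹) = c * (a * g) * c⁻¹ := by group
    rw [h1, h2] at e
    exact mul_left_cancel (mul_right_cancel e)

theorem cenK_eq_cases : ∀ i j : Fin 12, i ≠ j → cenK i = cenK j →
    (i = 7 ∧ j = 8) ∨ (i = 8 ∧ j = 7) ∨ (i = 10 ∧ j = 11) ∨ (i = 11 ∧ j = 10) := by decide

theorem not_conj_of_no_semi {a b : G1} (h : ∀ g : G1, g * a ≠ b * g) : ¬ IsConj a b := by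
  intro hc
  obtain ⟨c, hc⟩ := isConj_iff.mp hc
  apply h c
  rw [← hc]
  group

/-- distinct representatives are not conjugate -/
theorem not_conj (i j : Fin 12) (hij : i ≠ j) : ¬ IsConj (rp i) (rp j) := by
  intro hc
  by_cases h : cenK i = cenK j
  · rcases cenK_eq_cases i j hij h with ⟨rfl, rfl⟩ | ⟨rfl, rfl⟩ | ⟨rfl, rfl⟩ | ⟨rfl, rfl⟩
    · exact not_conj_of_no_semi no_semi_7_8 hc
    · exact not_conj_of_no_semi no_semi_7_8 hc.symm
    · exact not_conj_of_no_semi no_semi_10_11 hc
    · exact not_conj_of_no_semi no_semi_10_11 hc.symm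
  · apply h
    rw [← card_cen i, ← card_cen j]
    exact card_comm_of_isConj hc

/-- the conjugacy class of the `k`-th representative -/
noncomputable def cls (k : Fin 12) : Finset G1 := Helper78.classFinset (rp k)

theorem card_cls_mul (k : Fin 12) : (cls k).card * cenK k = 443520 := by
  unfold cls
  rw [Helper78.card_classFinset, ← card_cen k, ← card_G1]
  have e : Nat.card {g : G1 // g * rp k = rp k * g} =
      Nat.card (Subgroup.centralizer ({rp k} : Set G1)) := by
    apply Nat.card_congr
    apply Equiv.subtypeEquivRight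
    intro g
    rw [Subgroup.mem_centralizer_iff]
    constructor
    · intro h x hx
      rw [Set.mem_singleton_iff] at hx
      rw [hx, h]
    · intro h
      exact (h (rp k) (Set.mem_singleton _)).symm
  rw [e]
  exact Subgroup.index_mul_card _

theorem card_cls (k : Fin 12) : (cls k).card = 443520 / cenK k := by
  have h := card_cls_mul k
  have hpos : 0 < cenK k := by
    apply Nat.pos_of_ne_zero
    intro h0
    rw [h0, mul_zero] at h
    exact absurd h (by norm_num)
  exact (Nat.div_eq_of_eq_mul_left hpos h.symm).symm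

theorem sum_card_cls : ∑ k : Fin 12, 443520 / cenK k = 443520 := by decide

theorem cls_disjoint : ∀ i ∈ (Finset.univ : Finset (Fin 12)), ∀ j ∈ (Finset.univ : Finset (Fin 12)),
    i ≠ j → Disjoint (cls i) (cls j) := by
  intro i _ j _ hij
  rw [Finset.disjoint_left]
  intro x hxi hxj
  unfold cls at hxi hxj
  rw [Helper78.mem_classFinset] at hxi hxj
  exact not_conj i j hij (hxi.trans hxj.symm)

/-- every element is conjugate to one of the representatives -/
theorem cover (g : G1) : ∃ k : Fin 12, IsConj (rp k) g := by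
  have hcard : (Finset.univ.biUnion cls).card = 443520 := by
    rw [Finset.card_biUnion cls_disjoint]
    simp only [card_cls]
    exact sum_card_cls
  have huniv : Finset.univ.biUnion cls = Finset.univ := by
    apply Finset.eq_univ_of_card
    rw [hcard, card_G1']
  have hg : g ∈ Finset.univ.biUnion cls := by
    rw [huniv]
    exact Finset.mem_univ g
  rw [Finset.mem_biUnion] at hg
  obtain ⟨k, _, hk⟩ := hg
  unfold cls at hk
  rw [Helper78.mem_classFinset] at hk
  exact ⟨k, hk⟩

/-- the index of the class of `g` -/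
noncomputable def fineOf (g : G1) : Fin 12 := Classical.choose (cover g)

theorem fineOf_spec (g : G1) : IsConj (rp (fineOf g)) g := Classical.choose_spec (cover g)

theorem fineOf_eq {g : G1} {k : Fin 12} (h : IsConj (rp k) g) : fineOf g = k := by
  by_contra hne
  exact not_conj _ _ hne ((fineOf_spec g).trans h.symm)

theorem fineOf_rp (k : Fin 12) : fineOf (rp k) = k := fineOf_eq (IsConj.refl _)

theorem fineOf_conj (g h : G1) : fineOf (h * g * h⁻¹) = fineOf g := by
  apply fineOf_eq
  exact (fineOf_spec g).trans (isConj_iff.mpr ⟨h, rfl⟩)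

theorem orderOf_eq_of_isConj {Γ : Type*} [Group Γ] {a b : Γ} (h : IsConj a b) : orderOf a = orderOf b := by
  obtain ⟨c, hc⟩ := isConj_iff.mp h
  rw [← hc]
  have : c * a * c⁻¹ = (MulAut.conj c) a := rfl
  rw [this, MulEquiv.orderOf_eq]

theorem orderOf_eq_ordK (g : G1) : orderOf g = ordK (fineOf g) := by
  rw [← orderOf_rp, orderOf_eq_of_isConj (fineOf_spec g)]

/-- the cell of a class -/
def cf : Fin 12 → Fin 10 := ![0, 1, 2, 3, 4, 5, 6, 7, 7, 8, 9, 9]

/-- the cell of an element -/
noncomputable def kap (g : G1) : Fin 10 := cf (fineOf g)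

theorem kap_conj (g h : G1) : kap (h * g * h⁻¹) = kap g := by
  unfold kap
  rw [fineOf_conj]

theorem kap_rp (k : Fin 12) : kap (rp k) = cf k := by
  unfold kap
  rw [fineOf_rp]

/-- the orders of the elements of the cells -/
def ordCell : Fin 10 → ℕ := ![1, 2, 3, 4, 4, 5, 6, 7, 8, 11]

theorem ordK_eq_ordCell : ∀ k : Fin 12, ordK k = ordCell (cf k) := by decide

theorem orderOf_eq_ordCell (g : G1) : orderOf g = ordCell (kap g) := by
  rw [orderOf_eq_ordK, ordK_eq_ordCell]
  rfl

theorem cell_of_ord : ∀ (k : Fin 12) (c : Fin 10), ordK k = ordCell c → ordCell c ≠ 4 → cf k = c := by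
  decide

/-- away from order four, the cell is determined by the order -/
theorem kap_of_orderOf {g : G1} {c : Fin 10} (h : orderOf g = ordCell c) (h4 : ordCell c ≠ 4) : kap g = c := by
  unfold kap
  apply cell_of_ord _ _ _ h4
  rw [← orderOf_eq_ordK, h]

theorem kap_of_isConj {g : G1} {k : Fin 12} (h : IsConj (rp k) g) : kap g = cf k := by
  unfold kap
  rw [fineOf_eq h]

theorem kap_eq_zero_iff (g : G1) : kap g = 0 ↔ g = 1 := by
  constructor
  · intro h
    have h1 := orderOf_eq_ordCell g
    rw [h] at h1
    exact orderOf_eq_one_iff.mp h1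
  · intro h
    rw [h, ← rp_zero, kap_rp]
    rfl

/-- the cells of the elements of odd order -/
def oddCell : Fin 10 → Bool := ![true, false, true, false, false, true, false, true, false, true]

theorem oddCell_iff : ∀ c : Fin 10, oddCell c = true ↔ ¬ 2 ∣ ordCell c := by decide

theorem odd_iff_kap (g : G1) : ¬ 2 ∣ orderOf g ↔ oddCell (kap g) = true := by
  rw [oddCell_iff, orderOf_eq_ordCell]

end Cfsg.Agent.Helper27.M22B
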