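import Mathlib
import Cfsg.Agent.Helper27.M22B.Cover
import Cfsg.Agent.Helper27.M22B.InvData

/-!
The coarse structure constants of `G1` for the involutions and the elements of order three, and the linear
algebra certificate used to show that no irreducible character sums to zero over the elements of odd order.
-/

set_option autoImplicit false
set_option maxRecDepth 100000

namespace Cfsg.Agent.Helper27.M22B

/-- the number of involutions `x` with `x⁻¹ * z` in the cell `n`, for `z` in the cell `n'` -/
def Acoarse : Fin 10 → Fin 10 → ℕ := ![
  ![0, 1, 0, 0, 0, 0, 0, 0, 0, 0],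
  ![1155, 50, 18, 12, 8, 5, 6, 0, 0, 0],
  ![0, 192, 117, 64, 56, 50, 10, 28, 16, 11],
  ![0, 144, 72, 103, 16, 45, 36, 28, 44, 22],
  ![0, 192, 126, 32, 115, 80, 54, 84, 60, 44],
  ![0, 384, 360, 288, 256, 315, 168, 224, 176, 176],
  ![0, 192, 30, 96, 72, 70, 137, 84, 128, 121],
  ![0, 0, 288, 256, 384, 320, 288, 371, 256, 352],
  ![0, 0, 72, 176, 120, 110, 192, 112, 187, 198],
  ![0, 0, 72, 128, 128, 160, 264, 224, 288, 231]
]

theorem Amat_eq : ∀ (n : Fin 10) (k : Fin 12), Amat n k = Acoarse n (cf k) := by decide

/-- the number of `x` of order three with `x⁻¹ * z` of odd order, for `z` in the cell `n` -/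
def uCoarse : Fin 10 → ℕ := ![12320, 8928, 9215, 8528, 8704, 8740, 8238, 8624, 8352, 8437]

theorem uK_eq : ∀ k : Fin 12, uK k = uCoarse (cf k) := by decide

/-- the vectors `t * A ^ i` -/
def fvec : Fin 9 → Fin 10 → ℤ := ![
  ![1, 0, 1, 0, 0, 1, 0, 1, 0, 1],
  ![0, 577, 837, 736, 824, 845, 730, 847, 736, 770],
  ![666435, 918386, 943599, 921036, 939032, 936250, 913322, 933009, 913600, 920447],
  ![1060735830, 1075557895, 1076772291, 1071106732, 1074077744, 1073522750, 1068342244, 1072177183, 1068432544, 1069186976],
  ![1242269368725, 1239395653556, 1239009972069, 1237627429512, 1238086701776, 1237980244375, 1236687259052, 1237513050081, 1236689622400, 1236815883149],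
  ![1431501979857180, 1429861330852477, 1429651048414137, 1429297220406856, 1429366357414664, 1429350108246875, 1429012137620950, 1429207771808047, 1429012735283296, 1429030017246590],
  ![1651489837134610935, 1650915482170220486, 1650843557083712739, 1650750609794904756, 1650760892422965032, 1650758366936875000, 1650667850752050182, 1650717002913030129, 1650667864632193600, 1650670499057823947],
  ![1906807381906604661330, 1906632846309547687075, 1906610997852855541671, 1906586078956230401332, 1906587599383265011904, 1906587225128366562500, 1906562678405340378544, 1906575526001654993023, 1906562681927454751264, 1906563061836825548156],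
  ![2202160937487527578571625, 2202110504439534425773736, 2202104199627372930543849, 2202097443885705169570512, 2202097668051701559512096, 2202097612258133086328125, 2202090911772073555936952, 2202094346287589226541761, 2202090911847055285062400, 2202090968254446141033689]
]

/-- the denominator of the certificate -/
def Dval : ℤ := 171121812442615163717812224000000

/-- the coefficients of the certificate -/
def zvec : Fin 9 → ℤ := ![(-4373900249699751544591983309375), 516386156689216186982685984600, (-530524437604123098353720580), (-501064192586449516279450008), 4753749003000671486941318, 56863972677167941238504, (-752037996659257940484), 2227042591674609112, (-1403772253193407)]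

/-- the coefficient of `uCoarse` in the certificate -/
def zu : ℤ := (-1975432178269727719686144000)

theorem fvec_zero : fvec 0 = fun n => if oddCell n = true then 1 else 0 := by
  funext n
  fin_cases n <;> rfl

set_option Elab.async false in
theorem fvec_succ : ∀ i : Fin 8, ∀ n' : Fin 10,
    fvec i.succ n' = ∑ n, fvec i.castSucc n * (Acoarse n n' : ℤ) := by
  decide +kernel

theorem Dval_ne : Dval ≠ 0 := by decide

set_option Elab.async false in
theorem cert : ∀ n : Fin 10,
    (∑ i, zvec i * fvec i n) + zu * (uCoarse n : ℤ) = if n = 0 then Dval else 0 := by
  decide +kernel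

end Cfsg.Agent.Helper27.M22B
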