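import Cfsg.Agent.Helper27.M22B.Codes

/-! Census of the stabiliser of two points in `M24`, part 14 (generated). -/

set_option autoImplicit false
set_option maxRecDepth 1000000
set_option Elab.async false

namespace Cfsg.Agent.Helper27.M22B

theorem chunk_14_0 : chunkPart 545322434642496914178706348964102176 snd0 = 158361906296374020548683992331567249142513519924782633402276304513371454340969962679957151543007806801308308080488168325698906436792973774345132232595939978834348864 := by decide +kernel

theorem chunk_14_1 : chunkPart 545322434642496914178706348964102176 snd1 = 125969713246077506534269835224187813974949890916756567184583443675015190700538439981927608736057056421291592567182052286584762839754295408342922518866763144853719872 := by decide +kernel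

theorem chunk_14_2 : chunkPart 545322434642496914178706348964102176 snd2 = 151163620198342556447593912960570234655303527927593922164136135429128098072757445638935633917991714876651659118379219619158092781653492359226100017252998795692608320 := by decide +kernel

theorem chunk_14_3 : chunkPart 545322434642496914178706348964102176 snd3 = 125969699516488733076118422510683953440135215038580393731368996228621759576329981864797943686721184905743128085196871971536863920151189680579604382574048425206090560 := by decide +kernel

theorem chunk_14_4 : chunkPart 545322434642496914178706348964102176 snd4 = 176357571771785850391204336397675521026170501861613989049935417697610650991378134340311845855141671476154983570178671800600845857442249771212955652492449164273126208 := by decide +kernel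

theorem chunk_14_5 : chunkPart 545322434642496914178706348964102176 snd5 = 129568851146522817342924808253519817201900499547546293060090125405606074677394699944343333363323292788403381880650181822963432429800617512434564744315655098923486016 := by decide +kernel

theorem chunk_14_6 : chunkPart 545322434642496914178706348964102176 snd6 = 287930795199349436475189860338507258664007567833658966743868121435682820559664502218217521289480600920685199099074826585957982067362482619814874405140717708865702720 := by decide +kernel

end Cfsg.Agent.Helper27.M22B
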