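import Cfsg.Agent.Helper27.M22B.Classes

/-!
The class representatives of `G1` as elements of the group, their orders and centralisers, and the other
counts obtained from the census (generated).
-/

set_option autoImplicit false
set_option maxRecDepth 100000

namespace Cfsg.Agent.Helper27.M22B

open Cfsg Cfsg.Agent.Helper7 Cfsg.Agent.Helper27.FusCode Cfsg.Agent.Helper27.FusTab
  Cfsg.Agent.Helper27.CodeEnum

theorem repC_chk : ∀ c ∈ repC, chkT [1, 0] (dec c) = true := by decide +kernel

theorem repC_norm : ∀ c ∈ repC, encL (dec c) = c := by decide +kernel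

theorem repC_length : repC.length = 12 := rfl

/-- the code of the `k`-th class representative -/
def rc (k : Fin 12) : ℕ := repC[k.1]'(by rw [repC_length]; exact k.2)

theorem rc_mem (k : Fin 12) : rc k ∈ repC := List.getElem_mem _

theorem exists_rp (k : Fin 12) : ∃ g : G1, IsCode (rc k) g.1 := by
  obtain ⟨g, hg, h⟩ := coded_of_chk (repC_chk _ (rc_mem k))
  exact ⟨⟨g, hg⟩, h⟩

/-- the `k`-th class representative -/
noncomputable def rp (k : Fin 12) : G1 := Classical.choose (exists_rp k)

theorem rp_code (k : Fin 12) : IsCode (rc k) (rp k).1 := Classical.choose_spec (exists_rp k)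

theorem rc_norm (k : Fin 12) : encL (dec (rc k)) = rc k := repC_norm _ (rc_mem k)

/-- the orders of the class representatives -/
def ordK : Fin 12 → ℕ := ![1, 2, 3, 4, 4, 5, 6, 7, 7, 8, 11, 11]

theorem ordK_chk : ∀ k : Fin 12, 0 < ordK k ∧ powC (rc k) (ordK k) = idC ∧
    ∀ d, d < ordK k → 0 < d → d ∣ ordK k → powC (rc k) d ≠ idC := by decide +kernel

theorem orderOf_rp (k : Fin 12) : orderOf (rp k) = ordK k := by
  rw [← Subgroup.orderOf_coe]
  obtain ⟨h0, h1, h2⟩ := ordK_chk k
  apply orderOf_of_powC (rp_code k) (rc_norm k) (ordK k) h0 h1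
  intro d hd
  rw [Nat.mem_properDivisors] at hd
  exact h2 d hd.2 (Nat.pos_of_dvd_of_pos hd.1 h0) hd.1

theorem rp_zero : rp 0 = 1 := by
  apply Subtype.ext
  have h := rp_code 0
  have h2 : rc 0 = idC := by decide +kernel
  rw [h2] at h
  exact isCode_inj h isCode_one

/-- the orders of the centralisers of the class representatives -/
def cenK : Fin 12 → ℕ := ![443520, 384, 36, 32, 16, 5, 12, 7, 7, 8, 11, 11]

theorem card_cen_0 : Nat.card {g : G1 // g * rp 0 = rp 0 * g} = 443520 := by
  rw [card_semi (rp 0) (rp 0) 984818244535754528103549039458486304 984818244535754528103549039458486304 2 (by norm_num) (rp_code 0) (rp_code 0)]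
  exact count_0

theorem card_cen_1 : Nat.card {g : G1 // g * rp 1 = rp 1 * g} = 384 := by
  rw [card_semi (rp 1) (rp 1) 479663310730678034207776437455390752 479663310730678034207776437455390752 5 (by norm_num) (rp_code 1) (rp_code 1)]
  exact count_1

theorem card_cen_2 : Nat.card {g : G1 // g * rp 2 = rp 2 * g} = 36 := by
  rw [card_semi (rp 2) (rp 2) 725895487971383339971559185675552800 725895487971383339971559185675552800 6 (by norm_num) (rp_code 2) (rp_code 2)]
  exact count_2

theorem card_cen_3 : Nat.card {g : G1 // g * rp 3 = rp 3 * g} = 32 := by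
  rw [card_semi (rp 3) (rp 3) 305396578317974284120527770792069152 305396578317974284120527770792069152 4 (by norm_num) (rp_code 3) (rp_code 3)]
  exact count_3

theorem card_cen_4 : Nat.card {g : G1 // g * rp 4 = rp 4 * g} = 16 := by
  rw [card_semi (rp 4) (rp 4) 443022936523562195853578270764271648 443022936523562195853578270764271648 4 (by norm_num) (rp_code 4) (rp_code 4)]
  exact count_4

theorem card_cen_5 : Nat.card {g : G1 // g * rp 5 = rp 5 * g} = 5 := by
  rw [card_semi (rp 5) (rp 5) 483673760568805975520106682392872992 483673760568805975520106682392872992 4 (by norm_num) (rp_code 5) (rp_code 5)]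
  exact count_5

theorem card_cen_6 : Nat.card {g : G1 // g * rp 6 = rp 6 * g} = 12 := by
  rw [card_semi (rp 6) (rp 6) 711797867330123044546319608850123808 711797867330123044546319608850123808 6 (by norm_num) (rp_code 6) (rp_code 6)]
  exact count_6

theorem card_cen_7 : Nat.card {g : G1 // g * rp 7 = rp 7 * g} = 7 := by
  rw [card_semi (rp 7) (rp 7) 226330445112291061870066821137303584 226330445112291061870066821137303584 3 (by norm_num) (rp_code 7) (rp_code 7)]
  exact count_7

theorem card_cen_8 : Nat.card {g : G1 // g * rp 8 = rp 8 * g} = 7 := by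
  rw [card_semi (rp 8) (rp 8) 182468382325596310367271496174798880 182468382325596310367271496174798880 3 (by norm_num) (rp_code 8) (rp_code 8)]
  exact count_8

theorem card_cen_9 : Nat.card {g : G1 // g * rp 9 = rp 9 * g} = 8 := by
  rw [card_semi (rp 9) (rp 9) 770303189609338520078999807846747168 770303189609338520078999807846747168 4 (by norm_num) (rp_code 9) (rp_code 9)]
  exact count_9

theorem card_cen_10 : Nat.card {g : G1 // g * rp 10 = rp 10 * g} = 11 := by
  rw [card_semi (rp 10) (rp 10) 758328183602192793601178219946937376 758328183602192793601178219946937376 2 (by norm_num) (rp_code 10) (rp_code 10)]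
  exact count_10

theorem card_cen_11 : Nat.card {g : G1 // g * rp 11 = rp 11 * g} = 11 := by
  rw [card_semi (rp 11) (rp 11) 421085907753650777696758307741576224 421085907753650777696758307741576224 2 (by norm_num) (rp_code 11) (rp_code 11)]
  exact count_11

theorem card_cen (k : Fin 12) : Nat.card {g : G1 // g * rp k = rp k * g} = cenK k := by
  fin_cases k
  · exact card_cen_0
  · exact card_cen_1
  · exact card_cen_2
  · exact card_cen_3
  · exact card_cen_4
  · exact card_cen_5
  · exact card_cen_6
  · exact card_cen_7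
  · exact card_cen_8
  · exact card_cen_9
  · exact card_cen_10
  · exact card_cen_11

theorem no_semi_3_4 (g : G1) : g * rp 3 ≠ rp 4 * g := by
  have h : Nat.card {g : G1 // g * rp 3 = rp 4 * g} = 0 := by
    rw [card_semi (rp 3) (rp 4) 305396578317974284120527770792069152 443022936523562195853578270764271648 4 (by norm_num) (rp_code 3) (rp_code 4)]
    exact count_12
  intro hg
  have := Nat.card_eq_zero.mp h
  rcases this with h1 | h1
  · exact h1.false ⟨g, hg⟩
  · exact absurd (inferInstance : Finite {g : G1 // g * rp 3 = rp 4 * g}) (not_finite_iff_infinite.mpr h1)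

theorem no_semi_7_8 (g : G1) : g * rp 7 ≠ rp 8 * g := by
  have h : Nat.card {g : G1 // g * rp 7 = rp 8 * g} = 0 := by
    rw [card_semi (rp 7) (rp 8) 226330445112291061870066821137303584 182468382325596310367271496174798880 3 (by norm_num) (rp_code 7) (rp_code 8)]
    exact count_13
  intro hg
  have := Nat.card_eq_zero.mp h
  rcases this with h1 | h1
  · exact h1.false ⟨g, hg⟩
  · exact absurd (inferInstance : Finite {g : G1 // g * rp 7 = rp 8 * g}) (not_finite_iff_infinite.mpr h1)

theorem no_semi_10_11 (g : G1) : g * rp 10 ≠ rp 11 * g := by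
  have h : Nat.card {g : G1 // g * rp 10 = rp 11 * g} = 0 := by
    rw [card_semi (rp 10) (rp 11) 758328183602192793601178219946937376 421085907753650777696758307741576224 2 (by norm_num) (rp_code 10) (rp_code 11)]
    exact count_14
  intro hg
  have := Nat.card_eq_zero.mp h
  rcases this with h1 | h1
  · exact h1.false ⟨g, hg⟩
  · exact absurd (inferInstance : Finite {g : G1 // g * rp 10 = rp 11 * g}) (not_finite_iff_infinite.mpr h1)

theorem card_invol : Nat.card {g : G1 // g * g = 1} = 1156 := by
  rw [card_inv2]
  exact count_15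

/-- the numbers of elements `g` of order three with `g⁻¹ * r` of odd order -/
def uK : Fin 12 → ℕ := ![12320, 8928, 9215, 8528, 8704, 8740, 8238, 8624, 8624, 8352, 8437, 8437]

theorem card_u_0 : Nat.card {g : G1 // (g * g * g = 1 ∧ g ≠ 1) ∧ OddP (g * g * rp 0)} = 12320 := by
  rw [card_u (rp 0) 984818244535754528103549039458486304 (rp_code 0)]
  exact count_16

theorem card_u_1 : Nat.card {g : G1 // (g * g * g = 1 ∧ g ≠ 1) ∧ OddP (g * g * rp 1)} = 8928 := by
  rw [card_u (rp 1) 479663310730678034207776437455390752 (rp_code 1)]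
  exact count_17

theorem card_u_2 : Nat.card {g : G1 // (g * g * g = 1 ∧ g ≠ 1) ∧ OddP (g * g * rp 2)} = 9215 := by
  rw [card_u (rp 2) 725895487971383339971559185675552800 (rp_code 2)]
  exact count_18

theorem card_u_3 : Nat.card {g : G1 // (g * g * g = 1 ∧ g ≠ 1) ∧ OddP (g * g * rp 3)} = 8528 := by
  rw [card_u (rp 3) 305396578317974284120527770792069152 (rp_code 3)]
  exact count_19

theorem card_u_4 : Nat.card {g : G1 // (g * g * g = 1 ∧ g ≠ 1) ∧ OddP (g * g * rp 4)} = 8704 := by
  rw [card_u (rp 4) 443022936523562195853578270764271648 (rp_code 4)]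
  exact count_20

theorem card_u_5 : Nat.card {g : G1 // (g * g * g = 1 ∧ g ≠ 1) ∧ OddP (g * g * rp 5)} = 8740 := by
  rw [card_u (rp 5) 483673760568805975520106682392872992 (rp_code 5)]
  exact count_21

theorem card_u_6 : Nat.card {g : G1 // (g * g * g = 1 ∧ g ≠ 1) ∧ OddP (g * g * rp 6)} = 8238 := by
  rw [card_u (rp 6) 711797867330123044546319608850123808 (rp_code 6)]
  exact count_22

theorem card_u_7 : Nat.card {g : G1 // (g * g * g = 1 ∧ g ≠ 1) ∧ OddP (g * g * rp 7)} = 8624 := by
  rw [card_u (rp 7) 226330445112291061870066821137303584 (rp_code 7)]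
  exact count_23

theorem card_u_8 : Nat.card {g : G1 // (g * g * g = 1 ∧ g ≠ 1) ∧ OddP (g * g * rp 8)} = 8624 := by
  rw [card_u (rp 8) 182468382325596310367271496174798880 (rp_code 8)]
  exact count_24

theorem card_u_9 : Nat.card {g : G1 // (g * g * g = 1 ∧ g ≠ 1) ∧ OddP (g * g * rp 9)} = 8352 := by
  rw [card_u (rp 9) 770303189609338520078999807846747168 (rp_code 9)]
  exact count_25

theorem card_u_10 : Nat.card {g : G1 // (g * g * g = 1 ∧ g ≠ 1) ∧ OddP (g * g * rp 10)} = 8437 := by
  rw [card_u (rp 10) 758328183602192793601178219946937376 (rp_code 10)]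
  exact count_26

theorem card_u_11 : Nat.card {g : G1 // (g * g * g = 1 ∧ g ≠ 1) ∧ OddP (g * g * rp 11)} = 8437 := by
  rw [card_u (rp 11) 421085907753650777696758307741576224 (rp_code 11)]
  exact count_27

theorem card_uK (k : Fin 12) : Nat.card {g : G1 // (g * g * g = 1 ∧ g ≠ 1) ∧ OddP (g * g * rp k)} = uK k := by
  fin_cases k
  · exact card_u_0
  · exact card_u_1
  · exact card_u_2
  · exact card_u_3
  · exact card_u_4
  · exact card_u_5
  · exact card_u_6
  · exact card_u_7
  · exact card_u_8
  · exact card_u_9
  · exact card_u_10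
  · exact card_u_11

end Cfsg.Agent.Helper27.M22B
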