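import Cfsg.Agent.Helper27.M22B.Census

/-!
From the census to the group: sizes of subsets of `G1` cut out by the tested conditions, the class
representatives and their orders.
-/

set_option autoImplicit false
set_option maxRecDepth 100000

namespace Cfsg.Agent.Helper27.M22B

open Cfsg Cfsg.Agent.Helper7 Cfsg.Agent.Helper27.FusCode Cfsg.Agent.Helper27.FusTab
  Cfsg.Agent.Helper27.CodeEnum

theorem b2n_eq_ite (b : Bool) (P : Prop) [Decidable P] (h : b = true ↔ P) :
    b2n b = if P then 1 else 0 := by
  cases b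
  · have : ¬ P := fun hp => Bool.false_ne_true (h.mpr hp)
    simp [b2n, this]
  · have : P := h.mp rfl
    simp [b2n, this]

/-- the size of a subset of `G1` is the sum of its flag over the codes -/
theorem card_subtype_eq_sum (P : G1 → Prop) (f : ℕ → ℕ)
    (hf : ∀ c (g : G1), c ∈ codes → IsCode c g.1 → ∃ b : Bool, f c = b2n b ∧ (b = true ↔ P g)) :
    Nat.card {g : G1 // P g} = (codes.map f).sum := by
  classical
  have := Fintype.ofFinite G1
  rw [Nat.card_eq_fintype_card, Fintype.card_subtype, Finset.card_filter]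
  apply sum_eq_codes_sum
  intro c g hc hcg
  obtain ⟨b, hb, hbP⟩ := hf c g hc hcg
  rw [hb]
  exact b2n_eq_ite b (P g) hbP

/-- the number of solutions of `g * r = r' * g` -/
theorem card_semi (r r' : G1) (R R' p : ℕ) (hp : p < 24) (hR : IsCode R r.1) (hR' : IsCode R' r'.1) :
    Nat.card {g : G1 // g * r = r' * g} = (codes.map (flagS R R' p)).sum := by
  apply card_subtype_eq_sum
  intro c g _ hcg
  refine ⟨semiB c R R' p, rfl, ?_⟩
  rw [semiB_iff hp hcg hR hR']
  constructor
  · intro h
    exact Subtype.ext h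
  · intro h
    exact congrArg Subtype.val h

/-- the number of solutions of `g * g = 1` -/
theorem card_inv2 : Nat.card {g : G1 // g * g = 1} = (codes.map flagI).sum := by
  apply card_subtype_eq_sum
  intro c g _ hcg
  refine ⟨inv2 c, rfl, ?_⟩
  rw [inv2_iff hcg]
  constructor
  · intro h
    exact Subtype.ext h
  · intro h
    exact congrArg Subtype.val h

/-- odd order, for the orders that occur -/
def OddP {Γ : Type*} [Group Γ] (y : Γ) : Prop := y ^ 3 = 1 ∨ y ^ 5 = 1 ∨ y ^ 7 = 1 ∨ y ^ 11 = 1

/-- the number of `g` of order three with `g⁻¹ * r` of odd order -/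
theorem card_u (r : G1) (R : ℕ) (hR : IsCode R r.1) :
    Nat.card {g : G1 // (g * g * g = 1 ∧ g ≠ 1) ∧ OddP (g * g * r)} = (codes.map (flagU R)).sum := by
  apply card_subtype_eq_sum
  intro c g hc hcg
  refine ⟨is3 c && oddB (compU (compU c c) R), rfl, ?_⟩
  rw [Bool.and_eq_true, is3_iff hcg (norm_of_mem_codes hc), oddB_iff (isCode_mul (isCode_mul hcg hcg) hR)]
  unfold OddP
  have e1 : g.1 * g.1 * g.1 = 1 ↔ g * g * g = 1 :=
    ⟨fun h => Subtype.ext h, fun h => congrArg Subtype.val h⟩
  have e2 : g.1 ≠ 1 ↔ g ≠ 1 := by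
    constructor
    · intro h h'
      exact h (congrArg Subtype.val h')
    · intro h h'
      exact h (Subtype.ext h')
  have e3 : ∀ n : ℕ, (g.1 * g.1 * r.1) ^ n = 1 ↔ (g * g * r) ^ n = 1 := by
    intro n
    constructor
    · intro h
      apply Subtype.ext
      rw [Subgroup.coe_pow]
      exact h
    · intro h
      have := congrArg Subtype.val h
      rw [Subgroup.coe_pow] at this
      exact this
  rw [e1, e2, e3, e3, e3, e3]

/-! ### powers and orders -/

theorem norm_powC (c : ℕ) (hc : encL (dec c) = c) : ∀ n, encL (dec (powC c n)) = powC c n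
  | 0 => norm_idC
  | n + 1 => norm_compU _ _

theorem pow_eq_one_iff_powC {c : ℕ} {g : Equiv.Perm GolayPt} (h : IsCode c g) (hc : encL (dec c) = c)
    (n : ℕ) : g ^ n = 1 ↔ powC c n = idC :=
  (code_eq_iff (isCode_powC h n) isCode_one (norm_powC c hc n) norm_idC).symm

/-- the order of a coded permutation from the powers of its code -/
theorem orderOf_of_powC {c : ℕ} {g : Equiv.Perm GolayPt} (h : IsCode c g) (hc : encL (dec c) = c)
    (n : ℕ) (hn : 0 < n) (h1 : powC c n = idC) (h2 : ∀ d ∈ n.properDivisors, powC c d ≠ idC) :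
    orderOf g = n := by
  have hg : g ^ n = 1 := (pow_eq_one_iff_powC h hc n).mpr h1
  have hdvd : orderOf g ∣ n := orderOf_dvd_of_pow_eq_one hg
  by_contra hne
  have hmem : orderOf g ∈ n.properDivisors := by
    rw [Nat.mem_properDivisors]
    exact ⟨hdvd, lt_of_le_of_ne (Nat.le_of_dvd hn hdvd) hne⟩
  exact h2 _ hmem ((pow_eq_one_iff_powC h hc _).mp (pow_orderOf_eq_one g))

end Cfsg.Agent.Helper27.M22B
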