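import Cfsg.Agent.Helper27.M22B.Codes
import Cfsg.Agent.Helper7.M22OutData
import Cfsg.Agent.Helper7.OctadFix
import Cfsg.Agent.Helper7.M11S5

/-!
The elements of the stabiliser `G1` of the points `0`, `1` in `M24` are enumerated by the list `codes`;
sums over the group are sums over this list.
-/

set_option autoImplicit false
set_option maxRecDepth 1000000

namespace Cfsg.Agent.Helper27.M22B

open Cfsg Cfsg.Agent.Helper7 Cfsg.Agent.Helper27.FusCode Cfsg.Agent.Helper27.FusTab

/-- the stabiliser of the points `0` and `1` in `M24`, a copy of `M22` -/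
abbrev G1 : Subgroup (Equiv.Perm GolayPt) := fixG M24 [1, 0]

theorem card_G1 : Nat.card G1 = 443520 := card_fixG_m24_2

theorem hF10 : ∀ i ∈ [1, 0], i < 24 := by decide


theorem bRev_two : baseRev m24Levels 2 ++ [] = [1, 0] := by decide +kernel

theorem b_hok : chainOK [1, 0] m22Levels = true := by
  have h := chainOK_drop (F := []) 2 m24_chainOK
  rwa [bRev_two] at h

theorem b_hB : Bounds M24 [1, 0] m22Levels := by
  have h := bounds_drop (F := []) 2 m24_bounds
  rwa [bRev_two] at h

theorem b_hT : ∀ L ∈ m22Levels, ∀ l ∈ L.T, Tabled M24 l :=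
  fun L hL l hl => tabled_m24Levels L (List.mem_of_mem_drop hL) l hl

theorem b_assoc {t u l : List ℕ} {g gt gu gl : Equiv.Perm GolayPt} (ht : IsTable t gt)
    (hu : IsTable u gu) (hl : IsTable l gl) (h : IsTable (compT t (compT u l)) g) :
    IsTable (compT (compT t u) l) g := by
  have h1 := ht.mul (hu.mul hl)
  have e : g = gt * (gu * gl) := h.inj h1
  rw [e, ← mul_assoc]
  exact (ht.mul hu).mul hl

/-- Every element of the stabiliser of the points `0`, `1` is the product of a table of the first
level, a table of the second level and a table of the stabiliser of the points `2`, `3`. -/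
theorem b_sift : ∀ g ∈ fixG M24 [1, 0], ∃ t ∈ o22Top, ∃ u ∈ o22Snd, ∃ l ∈ l960Tabs,
    IsTable (compT (compT t u) l) g := by
  intro g hg
  obtain ⟨l, hl, hlt⟩ := chain_sift b_hT b_hok b_hB g hg
  have htop := o22Top_eq
  have hsnd := o22Snd_eq
  have hdrop : m24Levels.drop 4 = m22Levels.drop 2 := by
    rw [m22Levels, List.drop_drop]
  have hT := b_hT
  unfold l960Tabs
  rw [hdrop]
  cases hL : m22Levels with
  | nil =>
    rw [hL] at htop
    simp at htop
  | cons L Ls =>
    cases hLs : Ls with
    | nil =>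
      rw [hL, hLs] at hsnd
      simp at hsnd
    | cons L' Ls' =>
      rw [hL, hLs] at hsnd hl hT
      rw [hL] at htop
      simp only [List.map_cons, List.head?_cons, Option.some.injEq] at htop
      simp only [List.map_cons, List.drop_succ_cons, List.drop_zero, List.head?_cons,
        Option.some.injEq] at hsnd
      rw [prodTables, List.mem_flatMap] at hl
      obtain ⟨t, ht, hl⟩ := hl
      rw [List.mem_map] at hl
      obtain ⟨l', hl', rfl⟩ := hl
      rw [prodTables, List.mem_flatMap] at hl'
      obtain ⟨u, hu, hl'⟩ := hl'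
      rw [List.mem_map] at hl'
      obtain ⟨l'', hl'', rfl⟩ := hl'
      obtain ⟨gt, _, htt⟩ := hT L (by simp) t ht
      obtain ⟨gu, _, hut⟩ := hT L' (by simp) u hu
      obtain ⟨gl, _, hlt'⟩ := tabled_prodTables Ls'
        (fun L0 hL0 => hT L0 (List.mem_cons_of_mem _ (List.mem_cons_of_mem _ hL0))) l'' hl''
      refine ⟨t, htop ▸ ht, u, hsnd ▸ hu, l'', ?_, b_assoc htt hut hlt' hlt⟩
      simpa using hl''

theorem topC_dec : topC.map dec = o22Top := by decide +kernel

theorem sndC_dec : sndC.map dec = o22Snd := by decide +kernel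

theorem l960C_dec : l960C.map dec = l960Tabs := by decide +kernel

theorem topC_chk : ∀ c ∈ topC, chkT [1, 0] (dec c) = true := by decide +kernel

theorem sndC_chk : ∀ c ∈ sndC, chkT [1, 0] (dec c) = true := by decide +kernel

theorem b_hT' : ∀ L ∈ m22Levels, ∀ l ∈ L.T, Tabled (fixG M24 [1, 0]) l :=
  tabled_fixG_of_chainOK b_hT b_hok (by decide)

theorem l960Tabs_tabled : ∀ l ∈ l960Tabs, Tabled (fixG M24 [1, 0]) l := by
  have hdrop : m24Levels.drop 4 = m22Levels.drop 2 := by
    rw [m22Levels, List.drop_drop]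
  unfold l960Tabs
  rw [hdrop]
  exact tabled_prodTables _ (fun L hL l hl => b_hT' L (List.mem_of_mem_drop hL) l hl)

theorem l960C_coded : ∀ c ∈ l960C, ∃ g ∈ G1, IsCode c g := by
  intro c hc
  apply l960Tabs_tabled
  rw [← l960C_dec]
  exact List.mem_map.mpr ⟨c, hc, rfl⟩

theorem topC_length : topC.length = 22 := by decide +kernel

theorem sndC_length : sndC.length = 21 := by decide +kernel

theorem l960C_length : l960C.length = 960 := by decide +kernel

/-- a code passing the check is the code of an element of `G1` -/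
theorem coded_of_chk {c : ℕ} (h : chkT [1, 0] (dec c) = true) : ∃ g ∈ G1, IsCode c g :=
  tabled_of_chkT hF10 h

/-- the codes of the elements `t * u * l` -/
def codesOf (t : ℕ) : List ℕ := sndC.flatMap (fun u => l960C.map (fun l => compU (compU t u) l))

/-- the codes of all elements of `G1` -/
def codes : List ℕ := topC.flatMap codesOf

theorem codesOf_length (t : ℕ) : (codesOf t).length = 20160 := by
  unfold codesOf
  rw [List.length_flatMap]
  simp only [List.length_map, l960C_length, List.map_const', List.sum_replicate, sndC_length]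
  rfl

theorem codes_length : codes.length = 443520 := by
  unfold codes
  rw [List.length_flatMap]
  simp only [codesOf_length, List.map_const', List.sum_replicate, topC_length]
  rfl

theorem mem_codes {c : ℕ} : c ∈ codes ↔ ∃ t ∈ topC, ∃ u ∈ sndC, ∃ l ∈ l960C, c = compU (compU t u) l := by
  unfold codes codesOf
  simp only [List.mem_flatMap, List.mem_map]
  constructor
  · rintro ⟨t, ht, u, hu, l, hl, rfl⟩
    exact ⟨t, ht, u, hu, l, hl, rfl⟩
  · rintro ⟨t, ht, u, hu, l, hl, rfl⟩
    exact ⟨t, ht, u, hu, l, hl, rfl⟩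

theorem coded_of_mem_codes {c : ℕ} (hc : c ∈ codes) : ∃ g ∈ G1, IsCode c g := by
  obtain ⟨t, ht, u, hu, l, hl, rfl⟩ := mem_codes.mp hc
  obtain ⟨gt, hgt, hct⟩ := coded_of_chk (topC_chk t ht)
  obtain ⟨gu, hgu, hcu⟩ := coded_of_chk (sndC_chk u hu)
  obtain ⟨gl, hgl, hcl⟩ := l960C_coded l hl
  exact ⟨gt * gu * gl, G1.mul_mem (G1.mul_mem hgt hgu) hgl, isCode_mul (isCode_mul hct hcu) hcl⟩

theorem norm_of_mem_codes {c : ℕ} (hc : c ∈ codes) : encL (dec c) = c := by
  obtain ⟨t, _, u, _, l, _, rfl⟩ := mem_codes.mp hc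
  exact norm_compU _ _

theorem exists_code_of_mem {g : Equiv.Perm GolayPt} (hg : g ∈ G1) : ∃ c ∈ codes, IsCode c g := by
  obtain ⟨t', ht', u', hu', l', hl', htab⟩ := b_sift g hg
  rw [← topC_dec, List.mem_map] at ht'
  rw [← sndC_dec, List.mem_map] at hu'
  rw [← l960C_dec, List.mem_map] at hl'
  obtain ⟨t, ht, rfl⟩ := ht'
  obtain ⟨u, hu, rfl⟩ := hu'
  obtain ⟨l, hl, rfl⟩ := hl'
  obtain ⟨gt, _, hct⟩ := coded_of_chk (topC_chk t ht)
  obtain ⟨gu, _, hcu⟩ := coded_of_chk (sndC_chk u hu)
  obtain ⟨gl, _, hcl⟩ := l960C_coded l hl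
  have h1 : IsTable (compT (compT (dec t) (dec u)) (dec l)) (gt * gu * gl) := (hct.mul hcu).mul hcl
  have h2 : g = gt * gu * gl := htab.inj h1
  refine ⟨compU (compU t u) l, mem_codes.mpr ⟨t, ht, u, hu, l, hl, rfl⟩, ?_⟩
  rw [h2]
  exact isCode_mul (isCode_mul hct hcu) hcl

theorem forall₂_of_forall_exists {α β : Type*} (R : α → β → Prop) :
    ∀ l : List α, (∀ a ∈ l, ∃ b, R a b) → ∃ l' : List β, List.Forall₂ R l l'
  | [], _ => ⟨[], List.Forall₂.nil⟩
  | a :: l, h => by
    obtain ⟨b, hb⟩ := h a (List.mem_cons_self ..)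
    obtain ⟨l', hl'⟩ := forall₂_of_forall_exists R l (fun a' ha' => h a' (List.mem_cons_of_mem _ ha'))
    exact ⟨b :: l', List.Forall₂.cons hb hl'⟩

theorem exists_of_forall₂_mem {α β : Type*} {R : α → β → Prop} {l : List α} {l' : List β}
    (h : List.Forall₂ R l l') {a : α} (ha : a ∈ l) : ∃ b ∈ l', R a b := by
  induction h with
  | nil => simp at ha
  | cons hab _ ih =>
    rw [List.mem_cons] at ha
    rcases ha with rfl | ha
    · exact ⟨_, List.mem_cons_self .., hab⟩
    · obtain ⟨b, hb, hR⟩ := ih ha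
      exact ⟨b, List.mem_cons_of_mem _ hb, hR⟩

/-- an enumeration of `G1` parallel to the list of codes -/
theorem exists_enum : ∃ els : List G1, els.Nodup ∧ (∀ g, g ∈ els) ∧
    List.Forall₂ (fun c (g : G1) => IsCode c g.1) codes els := by
  classical
  obtain ⟨els, hels⟩ := forall₂_of_forall_exists (fun c (g : G1) => IsCode c g.1) codes (by
    intro c hc
    obtain ⟨g, hg, hcg⟩ := coded_of_mem_codes hc
    exact ⟨⟨g, hg⟩, hcg⟩)
  have hall : ∀ g, g ∈ els := by
    intro g
    obtain ⟨c, hc, hcg⟩ := exists_code_of_mem g.2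
    obtain ⟨g', hg', hcg'⟩ := exists_of_forall₂_mem hels hc
    have : g' = g := Subtype.ext (isCode_inj hcg' hcg)
    rw [← this]
    exact hg'
  refine ⟨els, ?_, hall, hels⟩
  have hlen : els.length = 443520 := by rw [← hels.length_eq, codes_length]
  have := Fintype.ofFinite G1
  have hfin : els.toFinset = Finset.univ := by
    ext g
    simp [hall g]
  have hcard : els.toFinset.card = els.length := by
    rw [hfin, Finset.card_univ, hlen, ← Nat.card_eq_fintype_card, card_G1]
  have h3 : (↑els : Multiset G1).toFinset.card = Multiset.card (↑els : Multiset G1) := by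
    simpa using hcard
  exact Multiset.coe_nodup.mp (Multiset.toFinset_card_eq_card_iff_nodup.mp h3)

/-- sums over `G1` are sums over the list of codes -/
theorem sum_eq_codes_sum [Fintype G1] (F : G1 → ℕ) (f : ℕ → ℕ)
    (hf : ∀ c (g : G1), c ∈ codes → IsCode c g.1 → f c = F g) :
    ∑ g : G1, F g = (codes.map f).sum := by
  classical
  obtain ⟨els, hnd, hall, h2⟩ := exists_enum
  have h1 : ∑ g : G1, F g = (els.map F).sum := by
    rw [← List.sum_toFinset F hnd]
    congr 1
    ext g
    simp [hall g]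
  rw [h1]
  have : ∀ (l : List ℕ) (l' : List G1), List.Forall₂ (fun c (g : G1) => IsCode c g.1) l l' →
      (∀ c ∈ l, c ∈ codes) → (l'.map F).sum = (l.map f).sum := by
    intro l l' h
    induction h with
    | nil => intro _; rfl
    | cons hab _ ih =>
      intro hmem
      rw [List.map_cons, List.map_cons, List.sum_cons, List.sum_cons,
        ih (fun c hc => hmem c (List.mem_cons_of_mem _ hc)), hf _ _ (hmem _ (List.mem_cons_self ..)) hab]
  exact this codes els h2 (fun c hc => hc)

end Cfsg.Agent.Helper27.M22B
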