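import Cfsg.Agent.Helper27.M22B.InvData
import Cfsg.Agent.Helper27.ClassAlg2

/-!
The involutions of `G1` as a list of elements, and the numbers of involutions `x` with `x⁻¹ * r` in a given
cell, for the class representatives `r`.
-/

set_option autoImplicit false
set_option maxRecDepth 100000

namespace Cfsg.Agent.Helper27.M22B

open Cfsg Cfsg.Agent.Helper7 Cfsg.Agent.Helper27.FusCode Cfsg.Agent.Helper27.FusTab
  Cfsg.Agent.Helper27.ClassAlg

attribute [local irreducible] compU labelC codeAt

theorem forall₂_map_eq {α β γ : Type*} {R : α → β → Prop} (f : α → γ) (g : β → γ) :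
    ∀ {l : List α} {l' : List β}, List.Forall₂ R l l' → (∀ a b, R a b → a ∈ l → f a = g b) →
      l.map f = l'.map g := by
  intro l l' h
  induction h with
  | nil => intro _; rfl
  | cons hab _ ih =>
    intro hfg
    rw [List.map_cons, List.map_cons, hfg _ _ hab (List.mem_cons_self ..),
      ih (fun a b hR ha => hfg a b hR (List.mem_cons_of_mem _ ha))]

theorem exists_of_forall₂_mem_right {α β : Type*} {R : α → β → Prop} {l : List α} {l' : List β}
    (h : List.Forall₂ R l l') {b : β} (hb : b ∈ l') : ∃ a ∈ l, R a b := by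
  induction h with
  | nil => simp at hb
  | cons hab _ ih =>
    rw [List.mem_cons] at hb
    rcases hb with rfl | hb
    · exact ⟨_, List.mem_cons_self .., hab⟩
    · obtain ⟨a, ha, hR⟩ := ih hb
      exact ⟨a, List.mem_cons_of_mem _ ha, hR⟩

theorem forall₂_nodup {α β γ : Type*} {R : α → β → Prop} (f : α → γ)
    (hR : ∀ a a' b, R a b → R a' b → f a = f a') :
    ∀ {l : List α} {l' : List β}, List.Forall₂ R l l' → (l.map f).Nodup → l'.Nodup := by
  intro l l' h
  induction h with
  | nil => intro _; exact List.nodup_nil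
  | cons hab hrest ih =>
    intro hnd
    rw [List.map_cons, List.nodup_cons] at hnd
    rw [List.nodup_cons]
    refine ⟨?_, ih hnd.2⟩
    intro hb
    obtain ⟨a', ha', hR'⟩ := exists_of_forall₂_mem_right hrest hb
    apply hnd.1
    rw [hR _ _ _ hab hR']
    exact List.mem_map.mpr ⟨a', ha', rfl⟩

theorem isInvB_iff {c : ℕ} {g : Equiv.Perm GolayPt} (hc : IsCode c g) (nc : encL (dec c) = c) :
    isInvB c = true ↔ g * g = 1 ∧ g ≠ 1 := by
  unfold isInvB
  rw [Bool.and_eq_true, beq_true_iff, compU_eq_idc_iff hc hc, Bool.not_eq_true', ← Bool.not_eq_true,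
    beq_true_iff, code_eq_iff hc isCode_idc nc norm_idc]

/-- the relation between the data and the involutions -/
def InvRel (e : ℕ × List ℕ) (x : G1) : Prop := IsCode (codeAt e.1) x.1 ∧ x * x = 1 ∧ x ≠ 1

/-- the involutions of `G1`, as a list parallel to the data -/
theorem exists_invEls : ∃ els : List G1, List.Forall₂ InvRel invData els := by
  apply forall₂_of_forall_exists
  intro e he
  obtain ⟨g, hg, hc⟩ := coded_codeAt e.1
  have h1 := List.all_eq_true.mp inv_ok e he
  rw [forceNat_eq, isInvB_iff hc (norm_codeAt _)] at h1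
  refine ⟨⟨g, hg⟩, hc, Subtype.ext h1.1, ?_⟩
  intro h
  exact h1.2 (congrArg Subtype.val h)

/-- the list of involutions -/
noncomputable def invEls : List G1 := Classical.choose exists_invEls

theorem invEls_spec : List.Forall₂ InvRel invData invEls := Classical.choose_spec exists_invEls

theorem invEls_length : invEls.length = 1155 := by
  rw [← invEls_spec.length_eq, inv_length]

theorem invEls_inv {x : G1} (hx : x ∈ invEls) : x * x = 1 ∧ x ≠ 1 := by
  obtain ⟨e, _, hR⟩ := exists_of_forall₂_mem_right invEls_spec hx
  exact hR.2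

theorem invEls_nodup : invEls.Nodup := by
  apply forall₂_nodup (fun e : ℕ × List ℕ => codeAt e.1) _ invEls_spec (nodup_of_isIncr _ inv_incr)
  intro a a' b h h'
  exact isCode_unique h.1 h'.1 (norm_codeAt _) (norm_codeAt _)

theorem one_notMem_invEls : (1 : G1) ∉ invEls := fun h => (invEls_inv h).2 rfl

/-- every involution is in the list -/
theorem mem_invEls_of_sq {x : G1} (hx : x * x = 1) (hx1 : x ≠ 1) : x ∈ invEls := by
  classical
  have hT : (Finset.univ.filter (fun g : G1 => g * g = 1)).card = 1156 := by
    rw [← card_invol, Nat.card_eq_fintype_card, Fintype.card_subtype]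
  have hU : (insert (1 : G1) invEls.toFinset).card = 1156 := by
    rw [Finset.card_insert_of_notMem (by simpa using one_notMem_invEls),
      List.toFinset_card_of_nodup invEls_nodup, invEls_length]
  have hsub : insert (1 : G1) invEls.toFinset ⊆ Finset.univ.filter (fun g : G1 => g * g = 1) := by
    intro g hg
    rw [Finset.mem_insert, List.mem_toFinset] at hg
    rw [Finset.mem_filter]
    refine ⟨Finset.mem_univ _, ?_⟩
    rcases hg with rfl | hg
    · exact one_mul 1
    · exact (invEls_inv hg).1
  have heq := Finset.eq_of_subset_of_card_le hsub (by rw [hT, hU])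
  have hxT : x ∈ Finset.univ.filter (fun g : G1 => g * g = 1) := by
    rw [Finset.mem_filter]
    exact ⟨Finset.mem_univ _, hx⟩
  rw [← heq, Finset.mem_insert, List.mem_toFinset] at hxT
  rcases hxT with h | h
  · exact absurd h hx1
  · exact h

theorem kap_eq_one_iff (x : G1) : kap x = 1 ↔ x ∈ invEls := by
  constructor
  · intro h
    have ho : orderOf x = 2 := by
      rw [orderOf_eq_ordCell, h]
      rfl
    have h2 : x ^ 2 = 1 := by
      rw [← ho]
      exact pow_orderOf_eq_one x
    refine mem_invEls_of_sq (by rw [← pow_two]; exact h2) ?_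
    intro h1
    rw [h1, orderOf_one] at ho
    norm_num at ho
  · intro h
    obtain ⟨h2, h1⟩ := invEls_inv h
    have : Fact (Nat.Prime 2) := ⟨Nat.prime_two⟩
    have ho : orderOf x = 2 := orderOf_eq_prime (by rw [pow_two]; exact h2) h1
    exact kap_of_orderOf (c := 1) ho (by decide)

theorem cell_one_eq : cell kap 1 = invEls.toFinset := by
  ext x
  rw [mem_cell, List.mem_toFinset, kap_eq_one_iff]

theorem labs_eq (k : Fin 12) : invData.map (labF (rc k) k.1) = labsAll k := by
  fin_cases k
  · exact labs0_eq
  · exact labs1_eq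
  · exact labs2_eq
  · exact labs3_eq
  · exact labs4_eq
  · exact labs5_eq
  · exact labs6_eq
  · exact labs7_eq
  · exact labs8_eq
  · exact labs9_eq
  · exact labs10_eq
  · exact labs11_eq

/-- the cells of the products of the involutions with a class representative -/
theorem map_kap_invEls (k : Fin 12) :
    invEls.map (fun x => (kap (x⁻¹ * rp k)).1) = labsAll k := by
  rw [← labs_eq k]
  symm
  apply forall₂_map_eq _ _ invEls_spec
  intro e x hR he
  have hinv : x⁻¹ = x := inv_eq_of_mul_eq_one_left hR.2.1
  rw [hinv]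
  have hv : labF (rc k) k.1 e ∈ labsAll k := by
    rw [← labs_eq k]
    exact List.mem_map.mpr ⟨e, he, rfl⟩
  have hlt := labs_lt k _ hv
  have hy : IsCode (compU (codeAt e.1) (rc k)) (x * rp k).1 := isCode_mul hR.1 (rp_code k)
  have hs := labelC_sound (h := nthD e.2 k.1 0) hy (norm_compU _ _) ⟨labF (rc k) k.1 e, hlt⟩ (by
    show labelC _ _ = labF (rc k) k.1 e
    unfold labF
    rw [forceNat_eq, forceNat_eq])
  rw [hs]

/-- the number of involutions `x` with `x⁻¹ * r` in the cell `n` -/
theorem cnt_invol (k : Fin 12) (n : Fin 10) : cnt (cell kap 1) (cell kap n) (rp k) = Amat n k := by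
  classical
  unfold cnt
  rw [cell_one_eq, ← labs_count k n, ← map_kap_invEls k]
  have h1 : (invEls.toFinset.filter (fun x => x⁻¹ * rp k ∈ cell kap n)) =
      (invEls.filter (fun x => decide (kap (x⁻¹ * rp k) = n))).toFinset := by
    ext x
    simp only [Finset.mem_filter, List.mem_toFinset, List.mem_filter, mem_cell, decide_eq_true_eq]
  rw [h1, List.toFinset_card_of_nodup (invEls_nodup.filter _), List.count_eq_countP, List.countP_map,
    List.countP_eq_length_filter]
  congr 1
  apply List.filter_congr
  intro x _
  simp only [Function.comp_apply]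
  rw [Bool.eq_iff_iff, decide_eq_true_eq, beq_iff_eq, Fin.ext_iff]

end Cfsg.Agent.Helper27.M22B
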