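import Cfsg.Agent.Helper27.M22B.Cover

/-!
The cell of an element of `G1` computed from its code (with a conjugating element as a hint for the elements
of order four).
-/

set_option autoImplicit false
set_option maxRecDepth 100000

namespace Cfsg.Agent.Helper27.M22B

open Cfsg Cfsg.Agent.Helper7 Cfsg.Agent.Helper27.FusCode Cfsg.Agent.Helper27.FusTab

/-- the code of the element with index `(a * 21 + b) * 960 + c` -/
def codeAt (i : ℕ) : ℕ :=
  compU (compU (nthD topC (Nat.div i 20160) idc) (nthD sndC (Nat.mod (Nat.div i 960) 21) idc))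
    (nthD l960C (Nat.mod i 960) idc)

theorem coded_idc : ∃ g ∈ G1, IsCode idc g := ⟨1, G1.one_mem, isCode_idc⟩

theorem coded_nthD {l : List ℕ} (hl : ∀ c ∈ l, ∃ g ∈ G1, IsCode c g) (i : ℕ) :
    ∃ g ∈ G1, IsCode (nthD l i idc) g := by
  rcases nthD_mem_or l i idc with h | h
  · exact hl _ h
  · rw [h]
    exact coded_idc

theorem coded_codeAt (i : ℕ) : ∃ g ∈ G1, IsCode (codeAt i) g := by
  obtain ⟨gt, hgt, hct⟩ := coded_nthD (fun c hc => coded_of_chk (topC_chk c hc)) (Nat.div i 20160)
  obtain ⟨gu, hgu, hcu⟩ := coded_nthD (fun c hc => coded_of_chk (sndC_chk c hc)) (Nat.mod (Nat.div i 960) 21)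
  obtain ⟨gl, hgl, hcl⟩ := coded_nthD l960C_coded (Nat.mod i 960)
  exact ⟨gt * gu * gl, G1.mul_mem (G1.mul_mem hgt hgu) hgl, isCode_mul (isCode_mul hct hcu) hcl⟩

theorem norm_codeAt (i : ℕ) : encL (dec (codeAt i)) = codeAt i := norm_compU _ _

/-- codes of the representatives of the two classes of elements of order four -/
def R4A : ℕ := 305396578317974284120527770792069152

def R4B : ℕ := 443022936523562195853578270764271648

theorem R4A_eq : rc 3 = R4A := rfl

theorem R4B_eq : rc 4 = R4B := rfl

/-- the cell of an element of order four with code `y`, where `h - 1` is the index of a conjugating element -/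
def lab4 (y h : ℕ) : ℕ :=
  forceNat (fun hc => cond (Nat.beq (compU hc y) (compU R4A hc)) 3
    (cond (Nat.beq (compU hc y) (compU R4B hc)) 4 99)) (codeAt (Nat.pred h))

/-- the cell of the element with code `y` -/
def labelC (y h : ℕ) : ℕ :=
  cond (Nat.beq y idc) 0 (forceNat (fun y2 => cond (Nat.beq y2 idc) 1
    (forceNat (fun y3 => cond (Nat.beq y3 idc) 2
      (forceNat (fun y4 => cond (Nat.beq y4 idc) (lab4 y h)
        (forceNat (fun y5 => cond (Nat.beq y5 idc) 5
          (forceNat (fun y6 => cond (Nat.beq y6 idc) 6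
            (forceNat (fun y7 => cond (Nat.beq y7 idc) 7
              (forceNat (fun y8 => cond (Nat.beq y8 idc) 8
                (forceNat (fun y11 => cond (Nat.beq y11 idc) 9 99) (compU y8 y3)))
                (compU y4 y4)))
              (compU y6 y)))
            (compU y3 y3)))
          (compU y4 y)))
        (compU y2 y2)))
      (compU y2 y)))
    (compU y y))

theorem coe_pow_eq_one_iff (g : G1) (n : ℕ) : g.1 ^ n = 1 ↔ g ^ n = 1 := by
  constructor
  · intro h
    apply Subtype.ext
    rw [Subgroup.coe_pow]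
    exact h
  · intro h
    have := congrArg Subtype.val h
    rw [Subgroup.coe_pow] at this
    exact this

theorem lab4_sound {y h : ℕ} {g : G1} (hy : IsCode y g.1) (n : Fin 10) (hl : lab4 y h = n.1) :
    kap g = n := by
  unfold lab4 at hl
  rw [forceNat_eq] at hl
  obtain ⟨c, hc, hcc⟩ := coded_codeAt (Nat.pred h)
  cases h1 : Nat.beq (compU (codeAt (Nat.pred h)) y) (compU R4A (codeAt (Nat.pred h)))
  · rw [h1, cond_false] at hl
    cases h2 : Nat.beq (compU (codeAt (Nat.pred h)) y) (compU R4B (codeAt (Nat.pred h)))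
    · rw [h2, cond_false] at hl
      have := n.2
      omega
    · rw [h2, cond_true] at hl
      rw [beq_true_iff, ← R4B_eq, compU_eq_compU_iff hcc hy (rp_code 4) hcc] at h2
      have hconj : IsConj (rp 4) g := by
        apply IsConj.symm
        rw [isConj_iff]
        refine ⟨⟨c, hc⟩, ?_⟩
        apply Subtype.ext
        show c * g.1 * c⁻¹ = (rp 4).1
        rw [h2]
        group
      rw [kap_of_isConj hconj]
      apply Fin.ext
      rw [← hl]
      rfl
  · rw [h1, cond_true] at hl
    rw [beq_true_iff, ← R4A_eq, compU_eq_compU_iff hcc hy (rp_code 3) hcc] at h1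
    have hconj : IsConj (rp 3) g := by
      apply IsConj.symm
      rw [isConj_iff]
      refine ⟨⟨c, hc⟩, ?_⟩
      apply Subtype.ext
      show c * g.1 * c⁻¹ = (rp 3).1
      rw [h1]
      group
    rw [kap_of_isConj hconj]
    apply Fin.ext
    rw [← hl]
    rfl

theorem kap_of_order {g : G1} {c : Fin 10} (h : orderOf g.1 = ordCell c) (h4 : ordCell c ≠ 4) :
    kap g = c := by
  apply kap_of_orderOf _ h4
  rw [← Subgroup.orderOf_coe]
  exact h

theorem divisors_six {d : ℕ} (h : d ∣ 6) : d = 1 ∨ d = 2 ∨ d = 3 ∨ d = 6 := by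
  have hle : d ≤ 6 := Nat.le_of_dvd (by norm_num) h
  interval_cases d <;> simp_all <;> omega

theorem labelC_sound {y h : ℕ} {g : G1} (hy : IsCode y g.1) (ny : encL (dec y) = y) (n : Fin 10)
    (hl : labelC y h = n.1) : kap g = n := by
  unfold labelC at hl
  simp only [forceNat_eq] at hl
  have c2 := isCode_mul hy hy
  have c3 := isCode_mul c2 hy
  have c4 := isCode_mul c2 c2
  have c5 := isCode_mul c4 hy
  have c6 := isCode_mul c3 c3
  have c7 := isCode_mul c6 hy
  have c8 := isCode_mul c4 c4
  have c11 := isCode_mul c8 c3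
  have e1 : Nat.beq y idc = true ↔ g.1 = 1 := by
    rw [beq_true_iff, code_eq_iff hy isCode_idc ny norm_idc]
  have q2 : g.1 * g.1 = g.1 ^ 2 := by simp only [pow_succ, pow_zero, one_mul]
  have q3 : g.1 * g.1 * g.1 = g.1 ^ 3 := by simp only [pow_succ, pow_zero, one_mul]
  have q4 : g.1 * g.1 * (g.1 * g.1) = g.1 ^ 4 := by simp only [pow_succ, pow_zero, one_mul, mul_assoc]
  have q5 : g.1 * g.1 * (g.1 * g.1) * g.1 = g.1 ^ 5 := by simp only [pow_succ, pow_zero, one_mul, mul_assoc]
  have q6 : g.1 * g.1 * g.1 * (g.1 * g.1 * g.1) = g.1 ^ 6 := by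
    simp only [pow_succ, pow_zero, one_mul, mul_assoc]
  have q7 : g.1 * g.1 * g.1 * (g.1 * g.1 * g.1) * g.1 = g.1 ^ 7 := by
    simp only [pow_succ, pow_zero, one_mul, mul_assoc]
  have q8 : g.1 * g.1 * (g.1 * g.1) * (g.1 * g.1 * (g.1 * g.1)) = g.1 ^ 8 := by
    simp only [pow_succ, pow_zero, one_mul, mul_assoc]
  have q11 : g.1 * g.1 * (g.1 * g.1) * (g.1 * g.1 * (g.1 * g.1)) * (g.1 * g.1 * g.1) = g.1 ^ 11 := by
    simp only [pow_succ, pow_zero, one_mul, mul_assoc]
  have e2 : Nat.beq (compU y y) idc = true ↔ g.1 ^ 2 = 1 := by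
    rw [beq_true_iff, code_eq_iff c2 isCode_idc (norm_compU _ _) norm_idc, q2]
  have e3 : Nat.beq (compU (compU y y) y) idc = true ↔ g.1 ^ 3 = 1 := by
    rw [beq_true_iff, code_eq_iff c3 isCode_idc (norm_compU _ _) norm_idc, q3]
  have e4 : Nat.beq (compU (compU y y) (compU y y)) idc = true ↔ g.1 ^ 4 = 1 := by
    rw [beq_true_iff, code_eq_iff c4 isCode_idc (norm_compU _ _) norm_idc, q4]
  have e5 : Nat.beq (compU (compU (compU y y) (compU y y)) y) idc = true ↔ g.1 ^ 5 = 1 := by
    rw [beq_true_iff, code_eq_iff c5 isCode_idc (norm_compU _ _) norm_idc, q5]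
  have e6 : Nat.beq (compU (compU (compU y y) y) (compU (compU y y) y)) idc = true ↔ g.1 ^ 6 = 1 := by
    rw [beq_true_iff, code_eq_iff c6 isCode_idc (norm_compU _ _) norm_idc, q6]
  have e7 : Nat.beq (compU (compU (compU (compU y y) y) (compU (compU y y) y)) y) idc = true ↔
      g.1 ^ 7 = 1 := by
    rw [beq_true_iff, code_eq_iff c7 isCode_idc (norm_compU _ _) norm_idc, q7]
  have e8 : Nat.beq (compU (compU (compU y y) (compU y y)) (compU (compU y y) (compU y y))) idc = true ↔
      g.1 ^ 8 = 1 := by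
    rw [beq_true_iff, code_eq_iff c8 isCode_idc (norm_compU _ _) norm_idc, q8]
  have e11 : Nat.beq (compU (compU (compU (compU y y) (compU y y)) (compU (compU y y) (compU y y)))
      (compU (compU y y) y)) idc = true ↔ g.1 ^ 11 = 1 := by
    rw [beq_true_iff, code_eq_iff c11 isCode_idc (norm_compU _ _) norm_idc, q11]
  have fin_of : ∀ (c : Fin 10) (m : ℕ), m = n.1 → c.1 = m → kap g = c → kap g = n := by
    intro c m hm hc hk
    rw [hk]
    apply Fin.ext
    rw [hc, hm]
  cases b1 : Nat.beq y idc
  case true =>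
    rw [b1, cond_true] at hl
    have hg : g = 1 := Subtype.ext (e1.mp b1)
    exact fin_of 0 0 hl rfl ((kap_eq_zero_iff g).mpr hg)
  case false =>
  rw [b1, cond_false] at hl
  have n1 : g.1 ≠ 1 := fun hh => Bool.false_ne_true (b1 ▸ e1.mpr hh)
  cases b2 : Nat.beq (compU y y) idc
  case true =>
    rw [b2, cond_true] at hl
    have : Fact (Nat.Prime 2) := ⟨by norm_num⟩
    have ho : orderOf g.1 = 2 := orderOf_eq_prime (e2.mp b2) n1
    exact fin_of 1 1 hl rfl (kap_of_order (c := 1) ho (by decide))
  case false =>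
  rw [b2, cond_false] at hl
  have n2 : g.1 ^ 2 ≠ 1 := fun hh => Bool.false_ne_true (b2 ▸ e2.mpr hh)
  cases b3 : Nat.beq (compU (compU y y) y) idc
  case true =>
    rw [b3, cond_true] at hl
    have : Fact (Nat.Prime 3) := ⟨by norm_num⟩
    have ho : orderOf g.1 = 3 := orderOf_eq_prime (e3.mp b3) n1
    exact fin_of 2 2 hl rfl (kap_of_order (c := 2) ho (by decide))
  case false =>
  rw [b3, cond_false] at hl
  have n3 : g.1 ^ 3 ≠ 1 := fun hh => Bool.false_ne_true (b3 ▸ e3.mpr hh)
  cases b4 : Nat.beq (compU (compU y y) (compU y y)) idc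
  case true =>
    rw [b4, cond_true] at hl
    exact lab4_sound hy n hl
  case false =>
  rw [b4, cond_false] at hl
  have n4 : g.1 ^ 4 ≠ 1 := fun hh => Bool.false_ne_true (b4 ▸ e4.mpr hh)
  cases b5 : Nat.beq (compU (compU (compU y y) (compU y y)) y) idc
  case true =>
    rw [b5, cond_true] at hl
    have : Fact (Nat.Prime 5) := ⟨by norm_num⟩
    have ho : orderOf g.1 = 5 := orderOf_eq_prime (e5.mp b5) n1
    exact fin_of 5 5 hl rfl (kap_of_order (c := 5) ho (by decide))
  case false =>
  rw [b5, cond_false] at hl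
  cases b6 : Nat.beq (compU (compU (compU y y) y) (compU (compU y y) y)) idc
  case true =>
    rw [b6, cond_true] at hl
    have hd : orderOf g.1 ∣ 6 := orderOf_dvd_of_pow_eq_one (e6.mp b6)
    have ho : orderOf g.1 = 6 := by
      rcases divisors_six hd with h1 | h1 | h1 | h1
      · exact absurd (orderOf_eq_one_iff.mp h1) n1
      · exact absurd (h1 ▸ pow_orderOf_eq_one g.1) n2
      · exact absurd (h1 ▸ pow_orderOf_eq_one g.1) n3
      · exact h1
    exact fin_of 6 6 hl rfl (kap_of_order ho (by decide))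
  case false =>
  rw [b6, cond_false] at hl
  cases b7 : Nat.beq (compU (compU (compU (compU y y) y) (compU (compU y y) y)) y) idc
  case true =>
    rw [b7, cond_true] at hl
    have : Fact (Nat.Prime 7) := ⟨by norm_num⟩
    have ho : orderOf g.1 = 7 := orderOf_eq_prime (e7.mp b7) n1
    exact fin_of 7 7 hl rfl (kap_of_order (c := 7) ho (by decide))
  case false =>
  rw [b7, cond_false] at hl
  cases b8 : Nat.beq (compU (compU (compU y y) (compU y y)) (compU (compU y y) (compU y y))) idc
  case true =>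
    rw [b8, cond_true] at hl
    have : Fact (Nat.Prime 2) := ⟨by norm_num⟩
    have ho : orderOf g.1 = 2 ^ (2 + 1) := orderOf_eq_prime_pow (by norm_num; exact n4) (by norm_num; exact e8.mp b8)
    exact fin_of 8 8 hl rfl (kap_of_order ho (by decide))
  case false =>
  rw [b8, cond_false] at hl
  cases b11 : Nat.beq (compU (compU (compU (compU y y) (compU y y)) (compU (compU y y) (compU y y)))
      (compU (compU y y) y)) idc
  case true =>
    rw [b11, cond_true] at hl
    have : Fact (Nat.Prime 11) := ⟨by norm_num⟩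
    have ho : orderOf g.1 = 11 := orderOf_eq_prime (e11.mp b11) n1
    exact fin_of 9 9 hl rfl (kap_of_order (c := 9) ho (by decide))
  case false =>
    rw [b11, cond_false] at hl
    have := n.2
    omega

end Cfsg.Agent.Helper27.M22B
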