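import Cfsg.Agent.Helper27.M22B.Invol
import Cfsg.Agent.Helper27.M22B.Cert
import Cfsg.Agent.Helper27.ClassAlg2
import Cfsg.Agent.Helper27.BlockTransport

/-!
All irreducible characters of the stabiliser `G1` of two points in `M24` lie in one `2`-block.
-/

set_option autoImplicit false

namespace Cfsg.Agent.Helper27.M22B

open Cfsg Cfsg.Agent.Helper27.ClassAlg

/-- the structure constants of the cell of the involutions -/
theorem cnt_invol_cell (n : Fin 10) (z : G1) :
    cnt (cell kap 1) (cell kap n) z = Acoarse n (kap z) := by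
  rw [cnt_of_isConj _ _ (conjInv_cell kap kap_conj 1) (conjInv_cell kap kap_conj n) (fineOf_spec z),
    cnt_invol, Amat_eq]
  rfl

theorem kap_eq_two_iff (x : G1) : kap x = 2 ↔ (x * x * x = 1 ∧ x ≠ 1) := by
  haveI : Fact (Nat.Prime 3) := ⟨by norm_num⟩
  constructor
  · intro h
    have ho := orderOf_eq_ordCell x
    rw [h] at ho
    have ho3 : orderOf x = 3 := ho
    constructor
    · have h3 := pow_orderOf_eq_one x
      rw [ho3, pow_succ, pow_two] at h3
      exact h3
    · rintro rfl
      rw [orderOf_one] at ho3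
      omega
  · rintro ⟨h3, h1⟩
    apply kap_of_orderOf (c := 2) _ (by decide)
    show orderOf x = 3
    have hx : x ^ 3 = 1 := by
      rw [pow_succ, pow_two]
      exact h3
    exact orderOf_eq_prime hx h1

theorem oddCell_dvd : ∀ c : Fin 10, oddCell c = true →
    ordCell c ∣ 3 ∨ ordCell c ∣ 5 ∨ ordCell c ∣ 7 ∨ ordCell c ∣ 11 := by decide

theorem oddP_iff (y : G1) : OddP y ↔ oddCell (kap y) = true := by
  constructor
  · intro h
    rw [← odd_iff_kap]
    intro h2
    rcases h with h | h | h | h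
    · have := h2.trans (orderOf_dvd_of_pow_eq_one h)
      omega
    · have := h2.trans (orderOf_dvd_of_pow_eq_one h)
      omega
    · have := h2.trans (orderOf_dvd_of_pow_eq_one h)
      omega
    · have := h2.trans (orderOf_dvd_of_pow_eq_one h)
      omega
  · intro h
    have hd := oddCell_dvd _ h
    rw [← orderOf_eq_ordCell] at hd
    rcases hd with h | h | h | h
    · exact Or.inl (orderOf_dvd_iff_pow_eq_one.mp h)
    · exact Or.inr (Or.inl (orderOf_dvd_iff_pow_eq_one.mp h))
    · exact Or.inr (Or.inr (Or.inl (orderOf_dvd_iff_pow_eq_one.mp h)))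
    · exact Or.inr (Or.inr (Or.inr (orderOf_dvd_iff_pow_eq_one.mp h)))

/-- the structure constants of the cell of the elements of order three against the elements of odd
order -/
theorem cnt_three_odd (z : G1) :
    cnt (cell kap 2) (selCells kap oddCell) z = uCoarse (kap z) := by
  classical
  rw [cnt_of_isConj _ _ (conjInv_cell kap kap_conj 2) (conjInv_selCells kap kap_conj oddCell)
    (fineOf_spec z)]
  have hk : uCoarse (kap z) = uK (fineOf z) := by
    rw [uK_eq]
    rfl
  rw [hk, ← card_uK, Nat.card_eq_fintype_card, Fintype.card_subtype]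
  unfold cnt
  apply congrArg Finset.card
  ext x
  rw [Finset.mem_filter, Finset.mem_filter, mem_cell, selCells, Finset.mem_filter, kap_eq_two_iff,
    ← oddP_iff]
  constructor
  · rintro ⟨h3, _, ho⟩
    refine ⟨Finset.mem_univ _, h3, ?_⟩
    rw [← inv_eq_of_mul_eq_one_left h3.1]
    exact ho
  · rintro ⟨_, h3, ho⟩
    refine ⟨h3, Finset.mem_univ _, ?_⟩
    rw [inv_eq_of_mul_eq_one_left h3.1]
    exact ho

/-- no irreducible character of `G1` sums to zero over the elements of odd order -/
theorem sum_odd_ne_zero (χ : IrrCharacter G1) :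
    ∑ᶠ x ∈ {x : G1 | ¬ 2 ∣ orderOf x}, (χ : G1 → ℂ) x ≠ 0 := by
  obtain ⟨n, ρ, hρ, hχ⟩ := χ.2
  haveI := hρ
  have hset : {x : G1 | ¬ 2 ∣ orderOf x} = ↑(selCells kap oddCell) := by
    ext x
    rw [Set.mem_setOf_eq, Finset.mem_coe, selCells, Finset.mem_filter, odd_iff_kap]
    exact ⟨fun h => ⟨Finset.mem_univ _, h⟩, fun h => h.2⟩
  rw [hset, finsum_mem_coe_finset, ← hχ]
  exact sum_sel_ne_zero ρ kap kap_conj 0 kap_eq_zero_iff oddCell 1 2 Acoarse cnt_invol_cell uCoarse
    cnt_three_odd 8 fvec fvec_zero fvec_succ Dval Dval_ne zvec zu cert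

/-- all irreducible characters of `G1` lie in one `2`-block -/
theorem sameBlock_G1 (M : Ideal AlgInt) (hM : IsPModular 2 M) (χ ψ : IrrCharacter G1) :
    SameBlock M (χ : G1 → ℂ) (ψ : G1 → ℂ) :=
  BlockTransport.sameBlock_of_sum_ne_zero M hM sum_odd_ne_zero χ ψ

end Cfsg.Agent.Helper27.M22B
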