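import Cfsg.Agent.Helper27.CodeEnum

/-!
Strict evaluation helpers for the kernel, and packing of several counters into one natural number.
-/

set_option autoImplicit false

namespace Cfsg.Agent.Helper27.M22B

/-- evaluate the number first, then apply the function -/
def forceNat {α : Sort _} (f : ℕ → α) (m : ℕ) : α := Nat.casesOn m (f 0) (fun n => f (Nat.succ n))

theorem forceNat_eq {α : Sort _} (f : ℕ → α) (m : ℕ) : forceNat f m = f m := by
  cases m <;> rfl

/-- `1` for `true`, `0` for `false` -/
def b2n (b : Bool) : ℕ := Bool.rec 0 1 b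

theorem b2n_true : b2n true = 1 := rfl

theorem b2n_false : b2n false = 0 := rfl

theorem b2n_le (b : Bool) : b2n b ≤ 1 := by cases b <;> simp [b2n]

/-- strict sum of `f` over a list, starting from `acc` -/
def ssum (f : ℕ → ℕ) : List ℕ → ℕ → ℕ
  | [], acc => acc
  | x :: xs, acc => forceNat (fun a => ssum f xs a) (Nat.add acc (f x))

theorem ssum_eq (f : ℕ → ℕ) : ∀ (l : List ℕ) (acc : ℕ), ssum f l acc = acc + (l.map f).sum
  | [], acc => by simp [ssum]
  | x :: xs, acc => by
    rw [ssum, forceNat_eq, ssum_eq f xs, List.map_cons, List.sum_cons]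
    show acc + f x + _ = _
    omega

/-- digits in base `B`, lowest first -/
def pack (B : ℕ) : List ℕ → ℕ
  | [] => 0
  | a :: l => a + B * pack B l

theorem sum_add_mul {α : Type*} (B : ℕ) (f g : α → ℕ) : ∀ xs : List α,
    (xs.map (fun x => f x + B * g x)).sum = (xs.map f).sum + B * (xs.map g).sum
  | [] => by simp
  | x :: xs => by
    simp only [List.map_cons, List.sum_cons]
    rw [sum_add_mul B f g xs]
    ring

theorem pack_sum (B : ℕ) {α : Type*} (xs : List α) :
    ∀ fs : List (α → ℕ), (xs.map (fun x => pack B (fs.map (fun f => f x)))).sum =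
      pack B (fs.map (fun f => (xs.map f).sum))
  | [] => by simp [pack]
  | f :: fs => by
    simp only [List.map_cons, pack]
    rw [sum_add_mul B f (fun x => pack B (fs.map (fun f => f x))) xs, pack_sum B xs fs]

theorem pack_digit (B : ℕ) (hB : 0 < B) : ∀ (l : List ℕ), (∀ a ∈ l, a < B) → ∀ j (hj : j < l.length),
    l[j] = pack B l / B ^ j % B
  | [], _, j, hj => by simp at hj
  | a :: l, hl, 0, _ => by
    have ha : a < B := hl a (List.mem_cons_self ..)
    simp only [List.getElem_cons_zero, pack, pow_zero, Nat.div_one]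
    rw [Nat.add_mul_mod_self_left, Nat.mod_eq_of_lt ha]
  | a :: l, hl, j + 1, hj => by
    have ha : a < B := hl a (List.mem_cons_self ..)
    have ih := pack_digit B hB l (fun b hb => hl b (List.mem_cons_of_mem _ hb)) j (by simpa using hj)
    simp only [List.getElem_cons_succ, pack]
    rw [ih, pow_succ', ← Nat.div_div_eq_div_mul]
    congr 2
    rw [Nat.add_mul_div_left _ _ hB, Nat.div_eq_of_lt ha, zero_add]

end Cfsg.Agent.Helper27.M22B
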