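import Cfsg.Agent.Helper27.M22B.Enum

/-!
What the tests of the census function mean for the coded permutations.
-/

set_option autoImplicit false
set_option maxRecDepth 100000

namespace Cfsg.Agent.Helper27.M22B

open Cfsg Cfsg.Agent.Helper7 Cfsg.Agent.Helper27.FusCode Cfsg.Agent.Helper27.FusTab

theorem idc_eq : idc = idC := by decide +kernel

theorem beq_true_iff (a b : ℕ) : Nat.beq a b = true ↔ a = b :=
  ⟨Nat.eq_of_beq_eq_true, fun h => h ▸ Nat.beq_refl a⟩

/-- equality of normalised codes is equality of permutations -/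
theorem code_eq_iff {a b : ℕ} {g h : Equiv.Perm GolayPt} (ha : IsCode a g) (hb : IsCode b h)
    (na : encL (dec a) = a) (nb : encL (dec b) = b) : a = b ↔ g = h := by
  constructor
  · intro e
    rw [e] at ha
    exact isCode_inj ha hb
  · intro e
    rw [e] at ha
    exact isCode_unique ha hb na nb

theorem norm_idc : encL (dec idc) = idc := by decide +kernel

theorem isCode_idc : IsCode idc 1 := by
  rw [idc_eq]
  exact isCode_one

theorem compU_eq_idc_iff {a b : ℕ} {g h : Equiv.Perm GolayPt} (ha : IsCode a g) (hb : IsCode b h) :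
    compU a b = idc ↔ g * h = 1 :=
  code_eq_iff (isCode_mul ha hb) isCode_idc (norm_compU _ _) norm_idc

theorem compU_eq_compU_iff {a b c d : ℕ} {g h g' h' : Equiv.Perm GolayPt} (ha : IsCode a g)
    (hb : IsCode b h) (hc : IsCode c g') (hd : IsCode d h') :
    compU a b = compU c d ↔ g * h = g' * h' :=
  code_eq_iff (isCode_mul ha hb) (isCode_mul hc hd) (norm_compU _ _) (norm_compU _ _)

/-- the meaning of `semiB` -/
theorem semiB_iff {x r r' p : ℕ} (hp : p < 24) {g ρ ρ' : Equiv.Perm GolayPt} (hx : IsCode x g)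
    (hr : IsCode r ρ) (hr' : IsCode r' ρ') : semiB x r r' p = true ↔ g * ρ = ρ' * g := by
  unfold semiB
  rw [Bool.and_eq_true, beq_true_iff, beq_true_iff, compU_eq_compU_iff hx hr hr' hx]
  constructor
  · exact fun h => h.2
  · intro h
    refine ⟨?_, h⟩
    have h2 := (compU_eq_compU_iff hx hr hr' hx).mpr h
    have h3 := congrArg (fun c => nthN c p) h2
    simp only [nthN_compU _ _ _ hp] at h3
    exact h3

theorem nthN_idc {i : ℕ} (hi : i < 24) : nthN idc i = i := by
  interval_cases i <;> decide +kernel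

/-- the meaning of `inv2` -/
theorem inv2_iff {x : ℕ} {g : Equiv.Perm GolayPt} (hx : IsCode x g) : inv2 x = true ↔ g * g = 1 := by
  unfold inv2 pre2
  rw [Bool.and_eq_true, Bool.and_eq_true, beq_true_iff, beq_true_iff, beq_true_iff,
    compU_eq_idc_iff hx hx]
  constructor
  · exact fun h => h.2
  · intro h
    have h2 := (compU_eq_idc_iff hx hx).mpr h
    refine ⟨⟨?_, ?_⟩, h⟩
    · have h3 := congrArg (fun c => nthN c 2) h2
      simp only [nthN_compU _ _ _ (by norm_num : 2 < 24), nthN_idc (by norm_num : 2 < 24)] at h3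
      exact h3
    · have h3 := congrArg (fun c => nthN c 3) h2
      simp only [nthN_compU _ _ _ (by norm_num : 3 < 24), nthN_idc (by norm_num : 3 < 24)] at h3
      exact h3

theorem nthN_lt24 {x : ℕ} {g : Equiv.Perm GolayPt} (hx : IsCode x g) (i : ℕ) (hi : i < 24) :
    nthN x i < 24 := by
  rw [isCode_iff] at hx
  have h := hx (pt i)
  rw [idx_pt hi] at h
  rw [← h]
  exact idx_lt _

/-- the test for elements of order three -/
def is3 (x : ℕ) : Bool := pre3 x && (Nat.beq (compU (compU x x) x) idc && !(Nat.beq x idc))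

theorem is3_iff {x : ℕ} {g : Equiv.Perm GolayPt} (hx : IsCode x g) (nx : encL (dec x) = x) :
    is3 x = true ↔ g * g * g = 1 ∧ g ≠ 1 := by
  unfold is3 pre3
  have hne : (!(Nat.beq x idc)) = true ↔ g ≠ 1 := by
    rw [Bool.not_eq_true', ← Bool.not_eq_true, beq_true_iff, code_eq_iff hx isCode_idc nx norm_idc]
  rw [Bool.and_eq_true, Bool.and_eq_true, Bool.and_eq_true, beq_true_iff, beq_true_iff, beq_true_iff,
    compU_eq_idc_iff (isCode_mul hx hx) hx, hne]
  constructor
  · exact fun h => h.2
  · intro h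
    have h2 := (compU_eq_idc_iff (isCode_mul hx hx) hx).mpr h.1
    refine ⟨⟨?_, ?_⟩, h⟩
    · have h3 := congrArg (fun c => nthN c 2) h2
      simp only [nthN_compU _ _ _ (by norm_num : 2 < 24), nthN_idc (by norm_num : 2 < 24)] at h3
      rw [nthN_compU _ _ _ (nthN_lt24 hx 2 (by norm_num))] at h3
      exact h3
    · have h3 := congrArg (fun c => nthN c 3) h2
      simp only [nthN_compU _ _ _ (by norm_num : 3 < 24), nthN_idc (by norm_num : 3 < 24)] at h3
      rw [nthN_compU _ _ _ (nthN_lt24 hx 3 (by norm_num))] at h3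
      exact h3

/-- the meaning of `oddB` -/
theorem oddB_iff {y : ℕ} {h : Equiv.Perm GolayPt} (hy : IsCode y h) :
    oddB y = true ↔ h ^ 3 = 1 ∨ h ^ 5 = 1 ∨ h ^ 7 = 1 ∨ h ^ 11 = 1 := by
  unfold oddB
  simp only [forceNat_eq, Bool.or_eq_true, beq_true_iff]
  have h2 := isCode_mul hy hy
  have h3 := isCode_mul h2 hy
  have h5 := isCode_mul h3 h2
  have h7 := isCode_mul h5 h2
  have h4 := isCode_mul h2 h2
  have p3 : h ^ 3 = h * h * h := by simp only [pow_succ, pow_zero, one_mul]
  have p5 : h ^ 5 = h * h * h * (h * h) := by simp only [pow_succ, pow_zero, one_mul, mul_assoc]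
  have p7 : h ^ 7 = h * h * h * (h * h) * (h * h) := by simp only [pow_succ, pow_zero, one_mul, mul_assoc]
  have p11 : h ^ 11 = h * h * h * (h * h) * (h * h) * (h * h * (h * h)) := by
    simp only [pow_succ, pow_zero, one_mul, mul_assoc]
  have e3 : compU (compU y y) y = idc ↔ h ^ 3 = 1 := by
    rw [code_eq_iff h3 isCode_idc (norm_compU _ _) norm_idc, p3]
  have e5 : compU (compU (compU y y) y) (compU y y) = idc ↔ h ^ 5 = 1 := by
    rw [code_eq_iff h5 isCode_idc (norm_compU _ _) norm_idc, p5]
  have e7 : compU (compU (compU (compU y y) y) (compU y y)) (compU y y) = idc ↔ h ^ 7 = 1 := by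
    rw [code_eq_iff h7 isCode_idc (norm_compU _ _) norm_idc, p7]
  have e11 : compU (compU (compU (compU (compU y y) y) (compU y y)) (compU y y))
      (compU (compU y y) (compU y y)) = idc ↔ h ^ 11 = 1 := by
    rw [compU_eq_idc_iff h7 h4, p11]
  rw [e3, e5, e7, e11]

end Cfsg.Agent.Helper27.M22B
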